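/-
Norms of a finite commutative ring with involution.

If `e` is a fixed idempotent on whose corner some `w - σ w` is invertible, every fixed unit of the corner
is a norm `z * σ z`.
-/
import Mathlib

set_option autoImplicit false
set_option linter.unusedSectionVars false
set_option linter.dupNamespace false

namespace CfsgLib.SemisimpleIso

variable {R : Type*} [CommRing R] {σ : R →+* R} (hσ : ∀ x, σ (σ x) = x) {e w t : R}
  (he : e * e = e) (hσe : σ e = e)

/-- The units which are one outside the corner of `e`. -/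
def corner (e : R) : Subgroup Rˣ where
  carrier := {u | (1 - e) * (u : R) = 1 - e}
  one_mem' := by simp
  mul_mem' {u v} hu hv := by
    show (1 - e) * (u.1 * v.1) = 1 - e
    rw [← mul_assoc, hu, hv]
  inv_mem' {u} hu := by
    show (1 - e) * (u⁻¹ : Rˣ).1 = 1 - e
    calc (1 - e) * (u⁻¹ : Rˣ).1 = (1 - e) * u.1 * (u⁻¹ : Rˣ).1 := by rw [hu]
      _ = 1 - e := by rw [mul_assoc, Units.mul_inv, mul_one]

theorem mem_corner (u : Rˣ) : u ∈ corner e ↔ (1 - e) * (u : R) = 1 - e := Iff.rfl

include hσe in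
theorem map_mem_corner {u : Rˣ} (hu : u ∈ corner e) : Units.map (σ : R →* R) u ∈ corner e := by
  have := congrArg σ hu
  rwa [map_mul, map_sub, map_one, hσe] at this

variable [Finite R] (ht : (w - σ w) * t = e)
include hσ he hσe ht

/-- Hilbert 90 for the corner. -/
theorem exists_div {x : Rˣ} (hx : x ∈ corner e) (hN : (x : R) * σ x = 1) :
    ∃ y ∈ corner e, Units.map (σ : R →* R) y * x = y := by
  classical
  haveI : IsArtinianRing R := inferInstance
  let M := {m : MaximalSpectrum R // e ∉ m.asIdeal}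
  let g : R → R := fun θ => θ + x * σ θ
  have hgσ : ∀ θ, (x : R) * σ (g θ) = g θ := fun θ => by
    show (x : R) * σ (θ + x * σ θ) = θ + x * σ θ
    rw [map_add, map_mul, hσ]
    linear_combination θ * hN
  let θ₀ : M → R := fun m => if g 1 ∈ m.1.asIdeal then w else 1
  have hne : ∀ m : M, g (θ₀ m) ∉ m.1.asIdeal := by
    intro m
    by_cases h1 : g 1 ∈ m.1.asIdeal
    · simp only [θ₀, if_pos h1]
      intro h2
      suffices key : w - σ w ∈ m.1.asIdeal by
        have := Ideal.mul_mem_right t _ key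
        rw [ht] at this
        exact m.2 this
      have h3 : w - σ w = g w - g 1 * σ w := by
        show w - σ w = w + x * σ w - (1 + x * σ 1) * σ w
        rw [map_one]; ring
      rw [h3]
      exact sub_mem h2 (Ideal.mul_mem_right _ _ h1)
    · simpa only [θ₀, if_neg h1] using h1
  obtain ⟨θ, hθ⟩ : ∃ θ : R, ∀ m : M, θ - θ₀ m ∈ m.1.asIdeal := by
    refine Ideal.exists_forall_sub_mem_ideal (fun m m' hmm => ?_) θ₀
    rw [Function.onFun, Ideal.isCoprime_iff_sup_eq]
    exact m.1.isMaximal.coprime_of_ne m'.1.isMaximal fun h => hmm (Subtype.ext (MaximalSpectrum.ext h))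
  set y : R := e * g θ + (1 - e) with hy
  have hyu : IsUnit y := by
    by_contra hc
    obtain ⟨m, hm, hym⟩ := exists_max_ideal_of_mem_nonunits hc
    by_cases hem : e ∈ m
    · refine hm.ne_top ((Ideal.eq_top_iff_one _).2 ?_)
      have := add_mem (sub_mem hym (Ideal.mul_mem_right (g θ) _ hem)) hem
      simpa [hy] using this
    · let m₀ : M := ⟨⟨m, hm⟩, hem⟩
      let m₁ : M := ⟨⟨m.comap σ, Ideal.comap_isMaximal_of_surjective σ fun a => ⟨σ a, hσ a⟩⟩, fun h => hem (by
        rw [← hσe]; exact h)⟩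
      have hiff : g 1 ∈ m.comap σ ↔ g 1 ∈ m := by
        rw [Ideal.mem_comap]
        conv_rhs => rw [← hgσ 1]
        exact ⟨fun h => Ideal.mul_mem_left _ _ h, fun h => (hm.isPrime.mem_or_mem h).resolve_left
          fun hxm => hm.ne_top (Ideal.eq_top_of_isUnit_mem _ hxm x.isUnit)⟩
      have h01 : θ₀ m₁ = θ₀ m₀ := by
        simp only [θ₀]
        exact if_congr hiff rfl rfl
      have h1m : (1 - e) ∈ m := (hm.isPrime.mem_or_mem (x := e) (by
        rw [mul_sub, mul_one, he, sub_self]; exact m.zero_mem)).resolve_left hem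
      have hegθ : g θ ∈ m := (hm.isPrime.mem_or_mem (x := e) (by
        have := sub_mem hym h1m
        rwa [hy, add_sub_cancel_right] at this)).resolve_left hem
      refine hne m₀ ?_
      have hd : g θ - g (θ₀ m₀) = (θ - θ₀ m₀) + x * σ (θ - θ₀ m₁) := by
        show θ + x * σ θ - (θ₀ m₀ + x * σ (θ₀ m₀)) = _
        rw [h01, map_sub]; ring
      have hdm : g θ - g (θ₀ m₀) ∈ m := by
        rw [hd]
        exact add_mem (hθ m₀) (Ideal.mul_mem_left _ _ (hθ m₁))
      have := sub_mem hegθ hdm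
      rwa [sub_sub_cancel] at this
  refine ⟨hyu.unit, ?_, Units.ext ?_⟩
  · show (1 - e) * y = 1 - e
    rw [hy, mul_add, ← mul_assoc, sub_mul, one_mul, he, sub_self, zero_mul, zero_add]
    linear_combination he
  · show σ y * x = y
    have h1 : (1 - e) * (x : R) = 1 - e := hx
    rw [hy, map_add, map_mul, map_sub, map_one, hσe]
    linear_combination e * hgσ θ + h1

omit hσe [Finite R] ht in
theorem norm_fixed (z : R) : σ (z * σ z) = z * σ z := by rw [map_mul, hσ, mul_comm]

/-- Every fixed unit of the corner is a norm. -/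
theorem exists_norm {h : Rˣ} (hh : h ∈ corner e) (hfix : σ (h : R) = h) :
    ∃ z ∈ corner e, (z : R) * σ z = h := by
  classical
  let S : Rˣ →* Rˣ := Units.map (σ : R →* R)
  let U := corner e
  let N : U →* U :=
    { toFun := fun u => ⟨u.1 * S u.1, mul_mem u.2 (map_mem_corner hσe u.2)⟩
      map_one' := Subtype.ext (by simp)
      map_mul' := fun u v => Subtype.ext (by simp [mul_mul_mul_comm]) }
  let ψ : U →* U :=
    { toFun := fun u => ⟨u.1 * (S u.1)⁻¹, mul_mem u.2 (inv_mem (map_mem_corner hσe u.2))⟩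
      map_one' := Subtype.ext (by simp)
      map_mul' := fun u v => Subtype.ext (by
        show u.1 * v.1 * (S (u.1 * v.1))⁻¹ = u.1 * (S u.1)⁻¹ * (v.1 * (S v.1)⁻¹)
        rw [map_mul, mul_inv, mul_mul_mul_comm]) }
  have hSS : ∀ u : Rˣ, S (S u) = u := fun u => Units.ext (hσ u)
  have hker : N.ker = ψ.range := by
    ext u
    rw [MonoidHom.mem_ker, MonoidHom.mem_range]
    constructor
    · intro hu
      obtain ⟨y, hy, hyu⟩ := exists_div hσ he hσe ht u.2
        (congrArg (fun v : U => ((v.1 : Rˣ) : R)) hu)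
      refine ⟨⟨y, hy⟩, Subtype.ext ?_⟩
      show y * (S y)⁻¹ = u.1
      rw [mul_inv_eq_iff_eq_mul, mul_comm, hyu]
    · rintro ⟨y, rfl⟩
      refine Subtype.ext ?_
      show y.1 * (S y.1)⁻¹ * S (y.1 * (S y.1)⁻¹) = 1
      rw [map_mul, map_inv, hSS]
      group
  have hle : N.range ≤ ψ.ker := by
    rintro _ ⟨u, rfl⟩
    refine MonoidHom.mem_ker.2 (Subtype.ext ?_)
    show u.1 * S u.1 * (S (u.1 * S u.1))⁻¹ = 1
    rw [map_mul, hSS, mul_comm (S u.1) u.1, mul_inv_cancel]
  have heq : N.range = ψ.ker := by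
    refine SetLike.coe_injective (Set.eq_of_subset_of_ncard_le hle ?_ (Set.toFinite _))
    rw [← Nat.card_coe_set_eq, ← Nat.card_coe_set_eq, SetLike.coe_sort_coe, SetLike.coe_sort_coe]
    have h1 := Subgroup.card_mul_index N.ker
    have h2 := Subgroup.card_mul_index ψ.ker
    rw [Subgroup.index_ker] at h1 h2
    rw [hker, ← h2, mul_comm] at h1
    exact (Nat.eq_of_mul_eq_mul_right Nat.card_pos h1).ge
  have hmem : (⟨h, hh⟩ : U) ∈ ψ.ker := by
    refine MonoidHom.mem_ker.2 (Subtype.ext ?_)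
    show h * (S h)⁻¹ = 1
    rw [show S h = h from Units.ext hfix, mul_inv_cancel]
  rw [← heq] at hmem
  obtain ⟨z, hz⟩ := hmem
  exact ⟨z.1, z.2, congrArg (fun v : U => ((v.1 : Rˣ) : R)) hz⟩

end CfsgLib.SemisimpleIso
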