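/-
Isometries of order prime to the characteristic that are similar: an intertwining map which is an isometry
away from the eigenvalues `±1`.
-/
import Cfsg.Agent.Lib.SemisimpleIso.Norm

set_option autoImplicit false
set_option linter.unusedSectionVars false
set_option linter.dupNamespace false

namespace CfsgLib.SemisimpleIso

open Matrix Polynomial

variable {F : Type*} [Field F] {ι : Type*} [Fintype ι] [DecidableEq ι]

/-- The adjoint with respect to `G`. -/
noncomputable def adj (G X : Matrix ι ι F) : Matrix ι ι F := G⁻¹ * Xᵀ * G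

/-- The bilinear form of `G`. -/
def bil (G : Matrix ι ι F) (x y : ι → F) : F := x ⬝ᵥ (G *ᵥ y)

section adj

variable {G : Matrix ι ι F} (hG : IsUnit G.det)

theorem adj_add (X Y : Matrix ι ι F) : adj G (X + Y) = adj G X + adj G Y := by
  simp [adj, Matrix.mul_add, Matrix.add_mul]

theorem adj_sub (X Y : Matrix ι ι F) : adj G (X - Y) = adj G X - adj G Y := by
  simp [adj, Matrix.mul_sub, Matrix.sub_mul]

theorem adj_neg (X : Matrix ι ι F) : adj G (-X) = -adj G X := by
  simp [adj, Matrix.mul_neg, Matrix.neg_mul]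

theorem adj_zero : adj G (0 : Matrix ι ι F) = 0 := by simp [adj]

theorem adj_smul (c : F) (X : Matrix ι ι F) : adj G (c • X) = c • adj G X := by
  simp [adj, Matrix.smul_mul, Matrix.mul_smul]

include hG

theorem adj_one : adj G (1 : Matrix ι ι F) = 1 := by simp [adj, Matrix.nonsing_inv_mul _ hG]

theorem adj_mul (X Y : Matrix ι ι F) : adj G (X * Y) = adj G Y * adj G X := by
  simp only [adj, Matrix.transpose_mul, Matrix.mul_assoc]
  rw [← Matrix.mul_assoc G G⁻¹, Matrix.mul_nonsing_inv _ hG, Matrix.one_mul]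

theorem adj_adj {s : F} (hs : s * s = 1) (hsym : Gᵀ = s • G) (X : Matrix ι ι F) : adj G (adj G X) = X := by
  have hinv : (G⁻¹)ᵀ = s • G⁻¹ := by
    rw [Matrix.transpose_nonsing_inv, hsym]
    refine Matrix.inv_eq_left_inv ?_
    rw [Matrix.smul_mul, Matrix.mul_smul, smul_smul, hs, one_smul, Matrix.nonsing_inv_mul _ hG]
  simp only [adj, Matrix.transpose_mul, Matrix.transpose_transpose, hsym, hinv, Matrix.smul_mul, Matrix.mul_smul,
    smul_smul, hs, one_smul, Matrix.mul_assoc]
  rw [Matrix.nonsing_inv_mul _ hG, Matrix.mul_one, ← Matrix.mul_assoc, Matrix.nonsing_inv_mul _ hG, Matrix.one_mul]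

theorem bil_adj (X : Matrix ι ι F) (x y : ι → F) : bil G (X *ᵥ x) y = bil G x (adj G X *ᵥ y) := by
  simp only [bil, adj, Matrix.mulVec_mulVec]
  rw [show G * (G⁻¹ * Xᵀ * G) = Xᵀ * G by
      rw [← Matrix.mul_assoc, ← Matrix.mul_assoc, Matrix.mul_nonsing_inv _ hG, Matrix.one_mul],
    ← Matrix.mulVec_mulVec, Matrix.dotProduct_mulVec x Xᵀ, Matrix.vecMul_transpose]

theorem ext_bil {M M' : Matrix ι ι F} (h : ∀ x y, bil G x (M *ᵥ y) = bil G x (M' *ᵥ y)) : M = M' := by
  have h' : G * M = G * M' := Matrix.ext fun i j => by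
    have := h (Pi.single i 1) (Pi.single j 1)
    simp only [bil, Matrix.mulVec_mulVec, Matrix.mulVec_single_one, single_dotProduct, one_mul,
      Matrix.col_apply] at this
    exact this
  calc M = G⁻¹ * (G * M) := by rw [← Matrix.mul_assoc, Matrix.nonsing_inv_mul _ hG, Matrix.one_mul]
    _ = G⁻¹ * (G * M') := by rw [h']
    _ = M' := by rw [← Matrix.mul_assoc, Matrix.nonsing_inv_mul _ hG, Matrix.one_mul]

theorem bil_iso {M : Matrix ι ι F} (h : adj G M * M = 1) (x y : ι → F) : bil G (M *ᵥ x) (M *ᵥ y) = bil G x y := by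
  rw [bil_adj hG, Matrix.mulVec_mulVec, h, Matrix.one_mulVec]

theorem adj_iso_iff {M : Matrix ι ι F} :
    adj G M * M = 1 ↔ ∀ x y, bil G (M *ᵥ x) (M *ᵥ y) = bil G x y := by
  refine ⟨bil_iso hG, fun h => ext_bil hG fun x y => ?_⟩
  rw [Matrix.one_mulVec, ← Matrix.mulVec_mulVec, ← bil_adj hG, h]

end adj

/-- Polynomials of intertwined matrices are intertwined. -/
theorem aeval_intertwine {A B Y : Matrix ι ι F} (h : Y * A = B * Y) (P : F[X]) :
    Y * aeval A P = aeval B P * Y := by
  induction P using Polynomial.induction_on' with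
  | add u v hu hv => rw [map_add, map_add, mul_add, add_mul, hu, hv]
  | monomial i c =>
    rw [aeval_monomial, aeval_monomial, ← Algebra.smul_def, ← Algebra.smul_def, mul_smul_comm, smul_mul_assoc]
    congr 1
    exact (SemiconjBy.pow_right (show SemiconjBy Y A B from h) i).eq

variable [Fintype F]

/-- The exponent fixing all roots of unity of order `N`. -/
noncomputable def qexp (F : Type*) [Fintype F] (N : ℕ) : ℕ := Fintype.card F ^ Nat.totient N

/-- The projection away from the eigenvalues `±1`, as a polynomial. -/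
noncomputable def projPoly (F : Type*) [Field F] [Fintype F] (N : ℕ) : F[X] :=
  (X - X ^ (N - 1)) ^ (qexp F N - 1)

theorem two_le_qexp {N : ℕ} (hN : 0 < N) : 2 ≤ qexp F N :=
  le_trans Fintype.one_lt_card (Nat.le_self_pow (Nat.totient_pos.2 hN).ne' _)

theorem pow_qexp {N : ℕ} (hN : Nat.Coprime (Fintype.card F) N) (hN0 : 0 < N) {A : Matrix ι ι F} (hA : A ^ N = 1) :
    A ^ qexp F N = A := by
  have h := Nat.ModEq.pow_totient hN
  rw [← pow_one A, ← pow_mul, one_mul]
  obtain ⟨k, hk⟩ : ∃ k, qexp F N = N * k + 1 := by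
    have h2 := (Nat.modEq_iff_dvd' (by have := two_le_qexp (F := F) hN0; exact le_trans (by norm_num) this)).1 h.symm
    obtain ⟨k, hk⟩ := h2
    exact ⟨k, by unfold qexp at *; have := two_le_qexp (F := F) hN0; unfold qexp at this; omega⟩
  rw [hk, pow_succ, pow_mul, hA, one_pow, one_mul, pow_one]

variable {G : Matrix ι ι F} (hG : IsUnit G.det)
include hG

/-- The properties of the projection. -/
theorem proj_spec {N : ℕ} (hN : Nat.Coprime (Fintype.card F) N) (hN0 : 0 < N) {A : Matrix ι ι F}
    (hA : A ^ N = 1) (hiso : adj G A * A = 1) :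
    let e := aeval A (projPoly F N)
    e * e = e ∧ adj G e = e ∧ Commute e A ∧ (A * A - 1) * (1 - e) = 0 ∧
      e = (A - adj G A) * aeval A ((X - X ^ (N - 1)) ^ (qexp F N - 2) : F[X]) := by
  intro e
  set Q := qexp F N with hQdef
  have hQ2 : 2 ≤ Q := two_le_qexp hN0
  have hadjA : adj G A = A ^ (N - 1) := by
    calc adj G A = adj G A * A ^ N := by rw [hA, mul_one]
      _ = A ^ (N - 1) := by
        rw [show N = N - 1 + 1 by omega, pow_succ', ← mul_assoc, hiso, one_mul, Nat.add_sub_cancel]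
  set d : F[X] := X - X ^ (N - 1) with hd
  have hdA : aeval A d = A - adj G A := by rw [hd, hadjA]; simp
  obtain ⟨p, hp⟩ := CharP.exists F
  obtain ⟨k, hpp, hcard⟩ := FiniteField.card F p
  haveI := Fact.mk hpp
  have hdQ : aeval A (d ^ Q) = aeval A d := by
    have hq := pow_qexp (F := F) hN hN0 hA
    rw [qexp, hcard, ← pow_mul] at hq
    rw [hd, hQdef, qexp, hcard, ← pow_mul, sub_pow_char_pow]
    simp only [map_sub, map_pow, aeval_X]
    rw [pow_right_comm, hq]
  have he : e = aeval A (d ^ (Q - 1)) := rfl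
  have hee : e * e = e := by
    rw [he, ← map_mul, ← pow_add, show Q - 1 + (Q - 1) = Q + (Q - 2) by omega, pow_add, map_mul, hdQ, ← map_mul,
      ← pow_succ', show Q - 2 + 1 = Q - 1 by omega]
  have hadjd : adj G (aeval A d) = -aeval A d := by
    rw [hdA, adj_sub, neg_sub]
    congr 1
    have h1 : A * adj G A = 1 := mul_eq_one_comm.1 hiso
    have h2 : adj G (adj G A) * adj G A = 1 := by rw [← adj_mul hG, h1, adj_one hG]
    calc adj G (adj G A) = adj G (adj G A) * (adj G A * A) := by rw [hiso, mul_one]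
      _ = A := by rw [← mul_assoc, h2, one_mul]
  have hadjpow : ∀ (M : Matrix ι ι F) n, adj G (M ^ n) = adj G M ^ n := by
    intro M n
    induction n with
    | zero => rw [pow_zero, pow_zero, adj_one hG]
    | succ n ih => rw [pow_succ, adj_mul hG, ih, ← pow_succ']
  have hadje : adj G e = e := by
    have h1 : adj G e = (-1 : F) ^ (Q - 1) • e := by
      rw [he, map_pow, hadjpow, hadjd, neg_pow, ← neg_one_smul F (1 : Matrix ι ι F), _root_.smul_pow, one_pow,
        smul_one_mul]
    rcases neg_one_pow_eq_or F (Q - 1) with h | h <;> rw [h] at h1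
    · rw [h1, one_smul]
    · rw [neg_one_smul] at h1
      have h2 : adj G e * adj G e = adj G e := by rw [← adj_mul hG, hee]
      rw [h1, neg_mul_neg, hee] at h2
      rw [h1, ← h2]
  refine ⟨hee, hadje, ?_, ?_, ?_⟩
  · have := aeval_intertwine (show A * A = A * A from rfl) (projPoly F N)
    exact this.symm
  · have h1 : A * A - 1 = A * aeval A d := by
      rw [hdA, mul_sub, mul_eq_one_comm.1 hiso]
    rw [h1, mul_assoc, he, mul_sub, mul_one, ← map_mul, ← pow_succ', show Q - 1 + 1 = Q by omega, hdQ, sub_self,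
      mul_zero]
  · rw [he, ← hdA, ← map_mul, ← pow_succ', show Q - 2 + 1 = Q - 1 by omega]

/-- The main intertwining map. -/
theorem core {s : F} (hs : s * s = 1) (hsym : Gᵀ = s • G) {N : ℕ} (hN : Nat.Coprime (Fintype.card F) N) (hN0 : 0 < N)
    {A B X : Matrix ι ι F} (hA : A ^ N = 1) (hA1 : adj G A * A = 1) (hB1 : adj G B * B = 1) (hX : IsUnit X)
    (hXA : X * A = B * X) :
    ∃ Y : Matrix ι ι F, IsUnit Y ∧ Y * A = B * Y ∧ B ^ N = 1 ∧
      adj G (Y * aeval A (projPoly F N)) * (Y * aeval A (projPoly F N)) = aeval A (projPoly F N) ∧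
      Y * aeval A (projPoly F N) = aeval B (projPoly F N) * Y := by
  classical
  have hBN : B ^ N = 1 := by
    obtain ⟨x, rfl⟩ := hX
    have := (SemiconjBy.pow_right (show SemiconjBy x.1 A B from hXA) N).eq
    rw [hA, mul_one] at this
    calc B ^ N = B ^ N * (x.1 * (x⁻¹).1) := by rw [Units.mul_inv, mul_one]
      _ = 1 := by rw [← mul_assoc, ← this, Units.mul_inv]
  obtain ⟨he, hse, hec, -, heD⟩ := proj_spec hG hN hN0 hA hA1
  set e := aeval A (projPoly F N) with he_def
  set t := aeval A ((Polynomial.X - Polynomial.X ^ (N - 1)) ^ (qexp F N - 2) : F[X]) with ht_def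
  set H := adj G X * X with hH
  have hHH : adj G H = H := by rw [hH, adj_mul hG, adj_adj hG hs hsym]
  have hcomm : A * H = H * A := by
    have h1 : adj G A * H * A = H := by
      calc adj G A * H * A = adj G (X * A) * (X * A) := by rw [adj_mul hG, hH]; noncomm_ring
        _ = adj G X * (adj G B * B) * X := by rw [hXA, adj_mul hG]; noncomm_ring
        _ = H := by rw [hB1, mul_one]
    have h2 : A * adj G A = 1 := mul_eq_one_comm.1 hA1
    calc A * H = A * (adj G A * H * A) := by rw [h1]
      _ = (A * adj G A) * H * A := by noncomm_ring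
      _ = H * A := by rw [h2, one_mul]
  have hHu : IsUnit H := by
    rw [hH]
    refine IsUnit.mul ?_ hX
    obtain ⟨x, rfl⟩ := hX
    exact IsUnit.of_mul_eq_one (adj G (x⁻¹).1) (by rw [← adj_mul hG, Units.inv_mul, adj_one hG])
  let S := Algebra.adjoin F ({A, H} : Set (Matrix ι ι F))
  haveI : IsMulCommutative S := Algebra.isMulCommutative_adjoin F (by
    rintro x (rfl | rfl) y (rfl | rfl)
    · rfl
    · exact hcomm
    · exact hcomm.symm
    · rfl)
  letI : CommRing S := { (inferInstance : Ring S) with mul_comm := fun a b => mul_comm' a b }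
  have hAS : A ∈ S := Algebra.subset_adjoin (Set.mem_insert _ _)
  have hHS : H ∈ S := Algebra.subset_adjoin (Set.mem_insert_of_mem _ rfl)
  have hadjA : adj G A = A ^ (N - 1) := by
    calc adj G A = adj G A * A ^ N := by rw [hA, mul_one]
      _ = A ^ (N - 1) := by
        rw [show N = N - 1 + 1 by omega, pow_succ', ← mul_assoc, hA1, one_mul, Nat.add_sub_cancel]
  have hadjS : ∀ x ∈ S, adj G x ∈ S := by
    intro x hx
    induction hx using Algebra.adjoin_induction with
    | mem x hx =>
      rcases hx with rfl | rfl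
      · rw [hadjA]; exact pow_mem hAS _
      · rw [hHH]; exact hHS
    | algebraMap r =>
      rw [Algebra.algebraMap_eq_smul_one, adj_smul, adj_one hG]
      exact S.smul_mem (one_mem S) r
    | add x y _ _ ihx ihy => rw [adj_add]; exact add_mem ihx ihy
    | mul x y _ _ ihx ihy => rw [adj_mul hG]; exact mul_mem ihy ihx
  let σ : S →+* S :=
    { toFun := fun x => ⟨adj G x.1, hadjS _ x.2⟩
      map_one' := Subtype.ext (adj_one hG)
      map_mul' := fun x y => by
        rw [mul_comm x y]
        exact Subtype.ext (adj_mul hG y.1 x.1)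
      map_zero' := Subtype.ext adj_zero
      map_add' := fun x y => Subtype.ext (adj_add x.1 y.1) }
  have hσ : ∀ x, σ (σ x) = x := fun x => Subtype.ext (adj_adj hG hs hsym x.1)
  have hpoly : ∀ P : F[X], aeval A P ∈ S := fun P => by
    induction P using Polynomial.induction_on' with
    | add u v hu hv => rw [map_add]; exact add_mem hu hv
    | monomial i c => rw [aeval_monomial]; exact mul_mem (S.algebraMap_mem c) (pow_mem hAS i)
  let eS : S := ⟨e, hpoly _⟩
  let aS : S := ⟨A, hAS⟩
  let hS : S := ⟨H, hHS⟩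
  have heS : eS * eS = eS := Subtype.ext he
  have hσe : σ eS = eS := Subtype.ext hse
  have ht : (aS - σ aS) * (⟨t, hpoly _⟩ : S) = eS := Subtype.ext heD.symm
  have hu : IsUnit hS := by
    have hinj : Function.Injective fun x : S => hS * x := fun x y hxy =>
      Subtype.ext (hHu.mul_left_cancel (congrArg Subtype.val hxy))
    obtain ⟨y, hy⟩ := (Finite.injective_iff_surjective.1 hinj) 1
    exact IsUnit.of_mul_eq_one y hy
  obtain ⟨u, hu⟩ := hu
  have hprod : (eS * u.1 + (1 - eS)) * (eS * (u⁻¹ : Sˣ).1 + (1 - eS)) = 1 := by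
    linear_combination (eS * eS) * u.mul_inv + (2 - (u.1 + (u⁻¹ : Sˣ).1)) * heS
  let h' : Sˣ := Units.mkOfMulEqOne _ _ hprod
  have hh'c : h' ∈ corner eS := by
    show (1 - eS) * (eS * u.1 + (1 - eS)) = 1 - eS
    linear_combination (1 - u.1) * heS
  obtain ⟨z, -, hz⟩ := exists_norm hσ heS hσe ht hh'c (by
    show σ (eS * u.1 + (1 - eS)) = eS * u.1 + (1 - eS)
    rw [map_add, map_mul, map_sub, map_one, hσe, hu, show σ hS = hS from Subtype.ext hHH])
  replace hz : (z : S) * σ (z : S) = eS * u.1 + (1 - eS) := hz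
  set Z : Matrix ι ι F := ((z⁻¹ : Sˣ).1 : S).1
  have hZA : Z * A = A * Z := congrArg Subtype.val (mul_comm ((z⁻¹ : Sˣ).1) aS)
  refine ⟨X * Z, hX.mul ⟨⟨Z, (z.1 : S).1, congrArg Subtype.val z.inv_mul, congrArg Subtype.val z.mul_inv⟩, rfl⟩,
    ?_, hBN, ?_, ?_⟩
  · rw [mul_assoc, hZA, ← mul_assoc, hXA, mul_assoc]
  · have key : σ eS * (σ (z⁻¹ : Sˣ).1 * hS * (z⁻¹ : Sˣ).1) * eS = eS := by
      rw [hσe, ← hu]
      have hσz : σ (z⁻¹ : Sˣ).1 * σ (z : S) = 1 := by rw [← map_mul, Units.inv_mul, map_one]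
      linear_combination (σ (z⁻¹ : Sˣ).1 * (z⁻¹ : Sˣ).1) * heS
        - (eS * σ (z⁻¹ : Sˣ).1 * (z⁻¹ : Sˣ).1) * hz + (eS * (z : S) * (z⁻¹ : Sˣ).1) * hσz + eS * z.mul_inv
    have key' : adj G e * (adj G Z * H * Z) * e = e := congrArg Subtype.val key
    calc adj G (X * Z * e) * (X * Z * e) = adj G e * (adj G Z * H * Z) * e := by
          rw [adj_mul hG, adj_mul hG, hH]; simp only [mul_assoc]
      _ = e := key'
  · exact aeval_intertwine (by rw [mul_assoc, hZA, ← mul_assoc, hXA, mul_assoc]) _

end CfsgLib.SemisimpleIso
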