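/-
Similar isometries of order prime to the characteristic of an alternating form are conjugate in the isometry group.
-/
import Cfsg.Agent.Lib.SemisimpleIso.Bilin

set_option autoImplicit false
set_option linter.unusedSectionVars false
set_option linter.dupNamespace false

namespace CfsgLib.SemisimpleIso

open Matrix Polynomial Module

variable {F : Type*} [Field F] {ι : Type*} [Fintype ι] [DecidableEq ι] {G : Matrix ι ι F}

theorem bil_add_left (x y z : ι → F) : bil G (x + y) z = bil G x z + bil G y z := add_dotProduct _ _ _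

theorem bil_add_right (x y z : ι → F) : bil G x (y + z) = bil G x y + bil G x z := by
  simp [bil, Matrix.mulVec_add, dotProduct_add]

theorem bil_sub_left (x y z : ι → F) : bil G (x - y) z = bil G x z - bil G y z := sub_dotProduct _ _ _

theorem bil_sub_right (x y z : ι → F) : bil G x (y - z) = bil G x y - bil G x z := by
  simp [bil, Matrix.mulVec_sub, dotProduct_sub]

theorem bil_smul_left (c : F) (x z : ι → F) : bil G (c • x) z = c * bil G x z := smul_dotProduct _ _ _

theorem bil_smul_right (c : F) (x z : ι → F) : bil G x (c • z) = c * bil G x z := by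
  simp [bil, Matrix.mulVec_smul, dotProduct_smul]

theorem bil_toBilin (x y : ι → F) : Matrix.toBilin' G x y = bil G x y := Matrix.toBilin'_apply' _ _ _

theorem bil_left_nondeg (hG : IsUnit G.det) {x : ι → F} (h : ∀ y, bil G x y = 0) : x = 0 := by
  funext i
  have := h (G⁻¹ *ᵥ Pi.single i 1)
  rw [bil, Matrix.mulVec_mulVec, Matrix.mul_nonsing_inv _ hG, Matrix.one_mulVec, dotProduct_single, mul_one] at this
  exact this

section alt

variable (halt : ∀ x : ι → F, bil G x x = 0)
include halt

theorem bil_swap (x y : ι → F) : bil G y x = -bil G x y := by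
  have := halt (x + y)
  rw [bil_add_left, bil_add_right, bil_add_right, halt, halt] at this
  linear_combination this

theorem bil_comb {e f p p' : ι → F} (hef : bil G e f = 1) (hp : bil G e p = 0 ∧ bil G f p = 0)
    (hp' : bil G e p' = 0 ∧ bil G f p' = 0) (c d c' d' : F) :
    bil G (c • f - d • e + p) (c' • f - d' • e + p') = c * d' - d * c' + bil G p p' := by
  have h1 : bil G f e = -1 := by rw [bil_swap halt, hef]
  have h2 : bil G p e = 0 := by rw [bil_swap halt, hp.1, neg_zero]
  have h3 : bil G p f = 0 := by rw [bil_swap halt, hp.2, neg_zero]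
  simp only [bil_add_left, bil_add_right, bil_sub_left, bil_sub_right, bil_smul_left, bil_smul_right, halt, hef,
    h1, h2, h3, hp'.1, hp'.2]
  ring

/-- Two non-degenerate subspaces of the same dimension are isometric. -/
theorem exists_iso_alt : ∀ (n : ℕ) (P P' : Submodule F (ι → F)), finrank F P = n → finrank F P' = n →
    (∀ x ∈ P, (∀ y ∈ P, bil G x y = 0) → x = 0) → (∀ x ∈ P', (∀ y ∈ P', bil G x y = 0) → x = 0) →
    ∃ φ : P →ₗ[F] (ι → F), (∀ x, φ x ∈ P') ∧ ∀ x y : P, bil G (φ x) (φ y) = bil G x y := by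
  intro n
  induction n using Nat.strong_induction_on with
  | _ n ih =>
    intro P P' hP hP' hn hn'
    rcases Nat.eq_zero_or_pos n with rfl | hpos
    · rw [Submodule.finrank_eq_zero] at hP
      refine ⟨0, fun x => P'.zero_mem, fun x y => ?_⟩
      have hx : (x : ι → F) = 0 := (Submodule.mem_bot F).1 (hP ▸ x.2)
      simp [hx, bil]
    have key : ∀ Q : Submodule F (ι → F), finrank F Q = n → (∀ x ∈ Q, (∀ y ∈ Q, bil G x y = 0) → x = 0) →
        ∃ (e f : ι → F) (Q₁ : Submodule F (ι → F)), e ∈ Q ∧ f ∈ Q ∧ bil G e f = 1 ∧ Q₁ ≤ Q ∧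
          finrank F Q₁ + 2 = n ∧ (∀ x ∈ Q₁, bil G e x = 0 ∧ bil G f x = 0) ∧
          (∀ x ∈ Q₁, (∀ y ∈ Q₁, bil G x y = 0) → x = 0) ∧
          ∀ x ∈ Q, x - bil G e x • f + bil G f x • e ∈ Q₁ := by
      intro Q hQ hnQ
      obtain ⟨e, he, he0⟩ := Submodule.exists_mem_ne_zero_of_ne_bot (p := Q) (fun h => by
        rw [h, finrank_bot] at hQ; omega)
      obtain ⟨f₀, hf₀, hef₀⟩ : ∃ f₀ ∈ Q, bil G e f₀ ≠ 0 := by
        by_contra hc
        push Not at hc
        exact he0 (hnQ e he hc)
      obtain ⟨f, hf, hef⟩ : ∃ f ∈ Q, bil G e f = 1 :=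
        ⟨(bil G e f₀)⁻¹ • f₀, Q.smul_mem _ hf₀, by rw [bil_smul_right, inv_mul_cancel₀ hef₀]⟩
      have hfe : bil G f e = -1 := by rw [bil_swap halt, hef]
      let L : Q →ₗ[F] F × F :=
        ((Matrix.toBilin' G e).comp Q.subtype).prod ((Matrix.toBilin' G f).comp Q.subtype)
      have hL : ∀ x : Q, L x = (bil G e x, bil G f x) := fun x => Prod.ext (bil_toBilin _ _) (bil_toBilin _ _)
      have hsur : Function.Surjective L := fun p => by
        refine ⟨⟨p.1 • f - p.2 • e, Q.sub_mem (Q.smul_mem _ hf) (Q.smul_mem _ he)⟩, ?_⟩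
        rw [hL]
        ext <;> simp [bil_sub_right, bil_smul_right, halt, hef, hfe]
      let Q₁ := (LinearMap.ker L).map Q.subtype
      have hmem : ∀ x, x ∈ Q₁ ↔ x ∈ Q ∧ bil G e x = 0 ∧ bil G f x = 0 := by
        intro x
        constructor
        · rintro ⟨y, hy, rfl⟩
          rw [SetLike.mem_coe, LinearMap.mem_ker, hL, Prod.mk_eq_zero] at hy
          exact ⟨y.2, hy⟩
        · rintro ⟨hx, h1, h2⟩
          exact ⟨⟨x, hx⟩, by rw [SetLike.mem_coe, LinearMap.mem_ker, hL, Prod.mk_eq_zero]; exact ⟨h1, h2⟩, rfl⟩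
      have hπ : ∀ x ∈ Q, x - bil G e x • f + bil G f x • e ∈ Q₁ := fun x hx => (hmem _).2
        ⟨Q.add_mem (Q.sub_mem hx (Q.smul_mem _ hf)) (Q.smul_mem _ he),
          by simp [bil_add_right, bil_sub_right, bil_smul_right, halt, hef],
          by simp [bil_add_right, bil_sub_right, bil_smul_right, halt, hfe]⟩
      refine ⟨e, f, Q₁, he, hf, hef, Submodule.map_subtype_le _ _, ?_, fun x hx => ((hmem x).1 hx).2, ?_, hπ⟩
      · have h1 := LinearMap.finrank_range_add_finrank_ker L
        rw [LinearMap.range_eq_top.2 hsur, finrank_top, Module.finrank_prod, Module.finrank_self, hQ] at h1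
        show finrank F ((LinearMap.ker L).map Q.subtype : Submodule F (ι → F)) + 2 = n
        rw [Submodule.finrank_map_subtype_eq]
        omega
      · intro x hx h
        obtain ⟨hxQ, h1, h2⟩ := (hmem x).1 hx
        refine hnQ x hxQ fun y hy => ?_
        have h3 := h _ (hπ y hy)
        rwa [bil_add_right, bil_sub_right, bil_smul_right, bil_smul_right, bil_swap halt e x, bil_swap halt f x,
          h1, h2, neg_zero, mul_zero, mul_zero, sub_zero, add_zero] at h3
    obtain ⟨e, f, Q, he, hf, hef, -, hQd, hQp, hQn, hπ⟩ := key P hP hn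
    obtain ⟨e', f', Q', he', hf', hef', hQ'P, hQd', hQp', hQn', -⟩ := key P' hP' hn'
    obtain ⟨ψ, hψm, hψ⟩ := ih (finrank F Q) (by omega) Q Q' rfl (by omega) hQn hQn'
    let π : P →ₗ[F] Q :=
      { toFun := fun x => ⟨(x : ι → F) - bil G e x • f + bil G f x • e, hπ x x.2⟩
        map_add' := fun x y => Subtype.ext (by
          simp only [Submodule.coe_add, bil_add_right, add_smul]; abel)
        map_smul' := fun c x => Subtype.ext (by
          simp only [RingHom.id_apply, SetLike.val_smul, bil_smul_right, smul_add, smul_sub, smul_smul]) }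
    refine ⟨((Matrix.toBilin' G e).comp P.subtype).smulRight f' -
      ((Matrix.toBilin' G f).comp P.subtype).smulRight e' + ψ.comp π, fun x => ?_, fun x y => ?_⟩
    · exact P'.add_mem (P'.sub_mem (P'.smul_mem _ hf') (P'.smul_mem _ he')) (hQ'P (hψm _))
    · have hdec : ∀ z : P, (z : ι → F) = bil G e z • f - bil G f z • e + (π z : ι → F) := fun z => by
        show (z : ι → F) = _ + ((z : ι → F) - bil G e z • f + bil G f z • e)
        abel
      simp only [LinearMap.add_apply, LinearMap.sub_apply, LinearMap.smulRight_apply, LinearMap.comp_apply,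
        Submodule.subtype_apply, bil_toBilin]
      rw [bil_comb halt hef' (hQp' _ (hψm _)) (hQp' _ (hψm _)), hψ]
      conv_rhs => rw [hdec x, hdec y]
      rw [bil_comb halt hef (hQp _ (π x).2) (hQp _ (π y).2)]

/-- An isometry between the ranges of two self-adjoint idempotents of the same rank. -/
theorem exists_iso_idem (hG : IsUnit G.det) {p p' : Matrix ι ι F} (hp : p * p = p) (hp' : p' * p' = p')
    (hsp : adj G p = p) (hsp' : adj G p' = p')
    (hrank : finrank F (LinearMap.range p.mulVecLin) = finrank F (LinearMap.range p'.mulVecLin)) :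
    ∃ R : Matrix ι ι F, R * p = R ∧ p' * R = R ∧ adj G R * R = p := by
  have hnd : ∀ q : Matrix ι ι F, q * q = q → adj G q = q → ∀ x ∈ LinearMap.range q.mulVecLin,
      (∀ y ∈ LinearMap.range q.mulVecLin, bil G x y = 0) → x = 0 := by
    intro q hq hsq x hx h
    obtain ⟨a, rfl⟩ := hx
    refine bil_left_nondeg hG fun y => ?_
    have := h (q *ᵥ y) ⟨y, rfl⟩
    rwa [← hsq, ← bil_adj hG, hsq, Matrix.mulVecLin_apply, Matrix.mulVec_mulVec, hq] at this
  obtain ⟨φ, hφm, hφ⟩ := exists_iso_alt halt _ _ _ rfl hrank.symm (hnd p hp hsp) (hnd p' hp' hsp')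
  refine ⟨LinearMap.toMatrix' (φ.comp p.mulVecLin.rangeRestrict), ?_, ?_, ?_⟩
  · refine Matrix.toLin'.injective (LinearMap.ext fun x => ?_)
    simp only [Matrix.toLin'_apply, ← Matrix.mulVec_mulVec, LinearMap.toMatrix'_mulVec, LinearMap.comp_apply]
    congr 1
    refine Subtype.ext ?_
    show p *ᵥ (p *ᵥ x) = p *ᵥ x
    rw [Matrix.mulVec_mulVec, hp]
  · refine Matrix.toLin'.injective (LinearMap.ext fun x => ?_)
    simp only [Matrix.toLin'_apply, ← Matrix.mulVec_mulVec, LinearMap.toMatrix'_mulVec, LinearMap.comp_apply]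
    obtain ⟨a, ha⟩ := hφm (p.mulVecLin.rangeRestrict x)
    rw [← ha, Matrix.mulVecLin_apply, Matrix.mulVec_mulVec, hp']
  · refine ext_bil hG fun x y => ?_
    rw [← Matrix.mulVec_mulVec, ← bil_adj hG, LinearMap.toMatrix'_mulVec, LinearMap.toMatrix'_mulVec,
      LinearMap.comp_apply, LinearMap.comp_apply, hφ]
    show bil G (p *ᵥ x) (p *ᵥ y) = _
    rw [bil_adj hG, hsp, Matrix.mulVec_mulVec, hp]

end alt

variable [Fintype F] {N : ℕ} (hN : Nat.Coprime (Fintype.card F) N) (hN0 : 0 < N) (hG : IsUnit G.det)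
include hN hN0 hG

/-- In odd order the projection is the one away from the fixed space. -/
theorem odd_fix (hodd : Odd N) {A : Matrix ι ι F} (hA : A ^ N = 1) (hA1 : adj G A * A = 1) :
    A * (1 - aeval A (projPoly F N)) = 1 - aeval A (projPoly F N) := by
  obtain ⟨-, -, -, h4, -⟩ := proj_spec hG hN hN0 hA hA1
  set U := 1 - aeval A (projPoly F N)
  have h2 : A * A * U = U := by rwa [sub_mul, one_mul, sub_eq_zero] at h4
  have h3 : ∀ j, (A * A) ^ j * U = U := by
    intro j
    induction j with
    | zero => rw [pow_zero, one_mul]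
    | succ j ih => rw [pow_succ, mul_assoc, h2, ih]
  obtain ⟨j, hj⟩ := hodd
  calc A * U = A ^ (2 * (j + 1)) * U := by rw [show 2 * (j + 1) = N + 1 by omega, pow_succ, hA, one_mul]
    _ = U := by rw [pow_mul, pow_two, h3]

/-- The three projections. -/
theorem exists_polys : ∃ P Q : F[X], ∀ A : Matrix ι ι F, A ^ N = 1 → adj G A * A = 1 →
    aeval A P * aeval A P = aeval A P ∧ adj G (aeval A P) = aeval A P ∧ A * aeval A P = aeval A P ∧
    aeval A Q * aeval A Q = aeval A Q ∧ adj G (aeval A Q) = aeval A Q ∧ A * aeval A Q = -aeval A Q ∧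
    aeval A (projPoly F N) + aeval A P + aeval A Q = 1 ∧ aeval A P * aeval A Q = 0 ∧
    aeval A (projPoly F N) * aeval A P = 0 ∧ aeval A (projPoly F N) * aeval A Q = 0 := by
  by_cases h2 : (2 : F) = 0
  · refine ⟨1 - projPoly F N, 0, fun A hA hA1 => ?_⟩
    obtain ⟨he, hse, -, -, -⟩ := proj_spec hG hN hN0 hA hA1
    have hodd : Odd N := by
      haveI : CharP F 2 := CharTwo.of_one_ne_zero_of_two_eq_zero one_ne_zero h2
      rw [← Nat.coprime_two_left]
      refine Nat.Coprime.coprime_dvd_left ?_ hN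
      obtain ⟨k, hp, hc⟩ := FiniteField.card F 2
      rw [hc]
      exact dvd_pow_self 2 k.pos.ne'
    have h := odd_fix hN hN0 hG hodd hA hA1
    simp only [map_sub, map_one, map_zero]
    set e := aeval A (projPoly F N)
    refine ⟨?_, ?_, h, mul_zero _, adj_zero, by simp, by abel, mul_zero _, ?_, mul_zero _⟩
    · rw [mul_sub, sub_mul, sub_mul, one_mul, one_mul, mul_one, he, sub_self, sub_zero]
    · rw [adj_sub, adj_one hG, hse]
    · rw [mul_sub, mul_one, he, sub_self]
  · refine ⟨C (2 : F)⁻¹ * ((1 + X) * (1 - projPoly F N)), C (2 : F)⁻¹ * ((1 - X) * (1 - projPoly F N)),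
      fun A hA hA1 => ?_⟩
    obtain ⟨he, hse, hec, h4, -⟩ := proj_spec hG hN hN0 hA hA1
    set e := aeval A (projPoly F N) with he'
    set U := 1 - e with hU
    set W := A * U with hW
    have hAAU : A * A * U = U := by rwa [sub_mul, one_mul, sub_eq_zero] at h4
    have hcomm : U * A = A * U := ((Commute.one_left A).sub_left hec).eq
    have hUU : U * U = U := by rw [hU, mul_sub, sub_mul, sub_mul, one_mul, one_mul, mul_one, he, sub_self, sub_zero]
    have hUW : U * W = W := by rw [hW, ← mul_assoc, hcomm, mul_assoc, hUU]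
    have hWU : W * U = W := by rw [hW, mul_assoc, hUU]
    have hWW : W * W = U := by rw [hW, mul_assoc, ← mul_assoc U, hcomm, mul_assoc A U U, hUU, ← mul_assoc, hAAU]
    have hAU : A * W = U := by rw [hW, ← mul_assoc, hAAU]
    have hsU : adj G U = U := by rw [hU, adj_sub, adj_one hG, hse]
    have hsW : adj G W = W := by
      rw [hW, adj_mul hG, hsU]
      have h5 : adj G A * (A * A * U) = adj G A * U := by rw [hAAU]
      rw [← mul_assoc, ← mul_assoc, hA1, one_mul] at h5
      calc U * adj G A = adj G A * U := by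
            have hinv : ∀ M : Matrix ι ι F, M * A = A * M → M * adj G A = adj G A * M := fun M hM => by
              calc M * adj G A = adj G A * A * M * adj G A := by rw [hA1, one_mul]
                _ = adj G A * M * (A * adj G A) := by rw [mul_assoc (adj G A) A M, ← hM]; noncomm_ring
                _ = adj G A * M := by rw [mul_eq_one_comm.1 hA1, mul_one]
            exact hinv U hcomm
        _ = A * U := h5.symm
    have hP : aeval A (C (2 : F)⁻¹ * ((1 + X) * (1 - projPoly F N))) = (2 : F)⁻¹ • (U + W) := by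
      rw [map_mul, aeval_C, ← Algebra.smul_def, map_mul, map_add, map_sub, map_one, aeval_X, ← he', ← hU, add_mul,
        one_mul]
    have hQ : aeval A (C (2 : F)⁻¹ * ((1 - X) * (1 - projPoly F N))) = (2 : F)⁻¹ • (U - W) := by
      rw [map_mul, aeval_C, ← Algebra.smul_def, map_mul, map_sub, map_sub, map_one, aeval_X, ← he', ← hU, sub_mul,
        one_mul]
    have heU : e * U = 0 := by rw [hU, mul_sub, mul_one, he, sub_self]
    have heW : e * W = 0 := by rw [hW, ← mul_assoc, hec.eq, mul_assoc, heU, mul_zero]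
    have hhalf : (2 : F)⁻¹ + (2 : F)⁻¹ = 1 := by rw [← two_mul, mul_inv_cancel₀ h2]
    rw [hP, hQ]
    clear_value W U
    refine ⟨?_, ?_, ?_, ?_, ?_, ?_, ?_, ?_, ?_, ?_⟩
    · rw [smul_mul_smul_comm, add_mul, mul_add, mul_add, hUU, hUW, hWU, hWW]
      match_scalars <;> field_simp <;> ring
    · rw [adj_smul, adj_add, hsU, hsW]
    · rw [mul_smul_comm, mul_add, ← hW, hAU, add_comm]
    · rw [smul_mul_smul_comm, sub_mul, mul_sub, mul_sub, hUU, hUW, hWU, hWW]
      match_scalars <;> field_simp <;> ring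
    · rw [adj_smul, adj_sub, hsU, hsW]
    · rw [mul_smul_comm, mul_sub, ← hW, hAU, ← smul_neg, neg_sub]
    · calc e + (2 : F)⁻¹ • (U + W) + (2 : F)⁻¹ • (U - W) = e + ((2 : F)⁻¹ + (2 : F)⁻¹) • U := by module
        _ = 1 := by rw [hhalf, one_smul, hU, add_sub_cancel]
    · rw [smul_mul_smul_comm, add_mul, mul_sub, mul_sub, hUU, hUW, hWU, hWW]
      module
    · rw [mul_smul_comm, mul_add, heU, heW, add_zero, smul_zero]
    · rw [mul_smul_comm, mul_sub, heU, heW, sub_zero, smul_zero]

/-- Similar isometries of an alternating form are conjugate by an isometry. -/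
theorem exists_isometry_alt (halt : ∀ x : ι → F, bil G x x = 0) (hskew : Gᵀ = -G) {A B X : Matrix ι ι F}
    (hA : A ^ N = 1) (hA1 : adj G A * A = 1) (hB1 : adj G B * B = 1) (hX : IsUnit X) (hXA : X * A = B * X) :
    ∃ K : Matrix ι ι F, adj G K * K = 1 ∧ K * A = B * K := by
  have hs : ((-1 : F)) * (-1) = 1 := by ring
  have hsym : Gᵀ = (-1 : F) • G := by rw [neg_one_smul, hskew]
  obtain ⟨Y, hYu, hYA, hB, hYiso, hYe⟩ := core hG hs hsym hN hN0 hA hA1 hB1 hX hXA
  obtain ⟨P, Q, hPQ⟩ := exists_polys (G := G) hN hN0 hG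
  obtain ⟨hp, hsp, hAp, hq, hsq, hAq, hsum, hpq, hep, heq⟩ := hPQ A hA hA1
  obtain ⟨hp', hsp', hBp', hq', hsq', hBq', -, hpq', hep', heq'⟩ := hPQ B hB hB1
  obtain ⟨he', hse', -, -, -⟩ := proj_spec hG hN hN0 hB hB1
  set e := aeval A (projPoly F N)
  set p := aeval A P
  set q := aeval A Q
  set e' := aeval B (projPoly F N)
  set p' := aeval B P
  set q' := aeval B Q
  have hrank : ∀ R : F[X], finrank F (LinearMap.range (aeval A R).mulVecLin) =
      finrank F (LinearMap.range (aeval B R).mulVecLin) := by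
    intro R
    show (aeval A R).rank = (aeval B R).rank
    have h := aeval_intertwine hYA R
    have hd : IsUnit Y.det := (Matrix.isUnit_iff_isUnit_det _).1 hYu
    rw [← Matrix.rank_mul_eq_right_of_isUnit_det Y _ hd, h, Matrix.rank_mul_eq_left_of_isUnit_det _ _ hd]
  obtain ⟨R, hR1, hR2, hR3⟩ := exists_iso_idem halt hG hp hp' hsp hsp' (hrank P)
  obtain ⟨S, hS1, hS2, hS3⟩ := exists_iso_idem halt hG hq hq' hsq hsq' (hrank Q)
  set E := Y * e with hE
  have hE2 : e' * E = E := by rw [hYe, ← mul_assoc, he']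
  have hcross : ∀ (M M' u u' : Matrix ι ι F), adj G u = u → u * M = M → u' * M' = M' → u * u' = 0 →
      adj G M * M' = 0 := by
    intro M M' u u' hu hM hM' huu
    rw [← hM, adj_mul hG, hu, mul_assoc, ← hM', ← mul_assoc u, huu, zero_mul, mul_zero]
  have hrev : ∀ u u' : Matrix ι ι F, adj G u = u → adj G u' = u' → u * u' = 0 → u' * u = 0 := by
    intro u u' hu hu' huu
    rw [← hu', ← hu, ← adj_mul hG, huu, adj_zero]
  refine ⟨E + R + S, ?_, ?_⟩
  · rw [adj_add, adj_add]
    simp only [add_mul, mul_add]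
    rw [hYiso, hR3, hS3, hcross E R e' p' hse' hE2 hR2 hep', hcross E S e' q' hse' hE2 hS2 heq',
      hcross R S p' q' hsp' hR2 hS2 hpq', hcross R E p' e' hsp' hR2 hE2 (hrev _ _ hse' hsp' hep'),
      hcross S E q' e' hsq' hS2 hE2 (hrev _ _ hse' hsq' heq'),
      hcross S R q' p' hsq' hS2 hR2 (hrev _ _ hsp' hsq' hpq')]
    simp only [add_zero, zero_add]
    exact hsum
  · have h1 : E * A = B * E := by
      rw [hE, mul_assoc, (aeval_intertwine (show A * A = A * A from rfl) (projPoly F N)).symm, ← mul_assoc, hYA,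
        mul_assoc]
    have hpc : p * A = A * p := (aeval_intertwine (show A * A = A * A from rfl) P).symm
    have hqc : q * A = A * q := (aeval_intertwine (show A * A = A * A from rfl) Q).symm
    have h2 : R * A = B * R := by
      calc R * A = R * (p * A) := by rw [← mul_assoc, hR1]
        _ = R := by rw [hpc, hAp, hR1]
        _ = B * R := by rw [← hR2, ← mul_assoc, hBp']
    have h3 : S * A = B * S := by
      calc S * A = S * (q * A) := by rw [← mul_assoc, hS1]
        _ = -S := by rw [hqc, hAq, mul_neg, hS1]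
        _ = B * S := by rw [← hS2, ← mul_assoc, hBq', neg_mul]
    rw [add_mul, add_mul, mul_add, mul_add, h1, h2, h3]

end CfsgLib.SemisimpleIso
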