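/-
The centraliser of a semisimple unitary element maps onto the determinants of the unitary group.
-/
import Cfsg.Agent.Lib.UnitaryConj.Norm
import Cfsg.Agent.Lib.CentralizerDet
import Cfsg.Agent.Lib.SemisimpleClasses

set_option autoImplicit false
set_option linter.unusedSectionVars false
set_option linter.dupNamespace false

namespace CfsgLib.SemisimpleUnitary

open Matrix Polynomial Module

variable {K : Type*} [Field K] {n : ℕ}

/-- The conjugate transpose. -/
def st (s : K →+* K) (M : Matrix (Fin n) (Fin n) K) : Matrix (Fin n) (Fin n) K := (M.map s)ᵀ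

/-- The Hermitian form. -/
def hf (s : K →+* K) (x y : Fin n → K) : K := x ⬝ᵥ (s ∘ y)

variable {s : K →+* K}

theorem st_mul (M N : Matrix (Fin n) (Fin n) K) : st s (M * N) = st s N * st s M := by
  simp [st, Matrix.map_mul, transpose_mul]

theorem st_one : st s (1 : Matrix (Fin n) (Fin n) K) = 1 := by simp [st]

theorem st_add (M N : Matrix (Fin n) (Fin n) K) : st s (M + N) = st s M + st s N := by
  ext i j; simp [st]

theorem st_sub (M N : Matrix (Fin n) (Fin n) K) : st s (M - N) = st s M - st s N := by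
  ext i j; simp [st]

theorem hf_add_left (x y z : Fin n → K) : hf s (x + y) z = hf s x z + hf s y z := add_dotProduct _ _ _

theorem hf_add_right (x y z : Fin n → K) : hf s x (y + z) = hf s x y + hf s x z := by
  simp [hf, dotProduct, Finset.sum_add_distrib, mul_add]

theorem hf_smul_left (c : K) (x z : Fin n → K) : hf s (c • x) z = c * hf s x z := smul_dotProduct _ _ _

theorem hf_zero_left (z : Fin n → K) : hf s 0 z = 0 := zero_dotProduct _

variable (hs : ∀ x, s (s x) = x)
include hs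

theorem st_st (M : Matrix (Fin n) (Fin n) K) : st s (st s M) = M := by ext i j; simp [st, hs]

theorem hf_symm (x y : Fin n → K) : hf s y x = s (hf s x y) := by
  simp [hf, dotProduct, map_sum, hs, mul_comm]

theorem hf_adj (M : Matrix (Fin n) (Fin n) K) (x y : Fin n → K) :
    hf s (M *ᵥ x) y = hf s x (st s M *ᵥ y) := by
  have h : s ∘ (st s M *ᵥ y) = Mᵀ *ᵥ (s ∘ y) := funext fun i => by
    simp [st, Matrix.mulVec, dotProduct, map_sum, hs]
  rw [hf, hf, h, Matrix.dotProduct_mulVec, Matrix.vecMul_transpose]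

theorem ext_hf {M N : Matrix (Fin n) (Fin n) K} (h : ∀ x y, hf s x (M *ᵥ y) = hf s x (N *ᵥ y)) : M = N := by
  ext i j
  have := h (Pi.single i 1) (Pi.single j 1)
  simp only [hf, single_dotProduct, one_mul, Function.comp_apply, Matrix.mulVec_single_one, Matrix.col_apply] at this
  exact Function.Involutive.injective hs this

/-- The orthogonal of a subspace. -/
def perp (s : K →+* K) (W : Submodule K (Fin n → K)) : Submodule K (Fin n → K) where
  carrier := {y | ∀ x ∈ W, hf s y x = 0}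
  add_mem' ha hb x hx := by rw [hf_add_left, ha x hx, hb x hx, add_zero]
  zero_mem' x _ := hf_zero_left x
  smul_mem' c y hy x hx := by rw [hf_smul_left, hy x hx, mul_zero]

theorem finrank_perp_ge (W : Submodule K (Fin n → K)) : n ≤ finrank K W + finrank K (perp s W) := by
  let b := Module.finBasis K W
  let L : (Fin n → K) →ₗ[K] (Fin (finrank K W) → K) :=
    { toFun := fun y i => hf s y (b i : Fin n → K)
      map_add' := fun y z => funext fun i => hf_add_left _ _ _
      map_smul' := fun c y => funext fun i => hf_smul_left _ _ _ }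
  have hker : LinearMap.ker L ≤ perp s W := by
    intro y hy x hx
    have h1 : ∀ i, hf s y (b i : Fin n → K) = 0 := fun i => congrFun hy i
    have h2 := congrArg Subtype.val (b.sum_repr ⟨x, hx⟩)
    simp only [Submodule.coe_sum, SetLike.val_smul] at h2
    rw [← h2, hf, dotProduct]
    simp only [Function.comp_apply, Finset.sum_apply, Pi.smul_apply, smul_eq_mul, map_sum, map_mul, Finset.mul_sum]
    rw [Finset.sum_comm]
    refine Finset.sum_eq_zero fun i _ => ?_
    have h3 := h1 i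
    rw [hf, dotProduct] at h3
    simp only [Function.comp_apply] at h3
    calc ∑ k, y k * (s (b.repr ⟨x, hx⟩ i) * s ((b i : Fin n → K) k)) =
        s (b.repr ⟨x, hx⟩ i) * ∑ k, y k * s ((b i : Fin n → K) k) := by
          rw [Finset.mul_sum]; exact Finset.sum_congr rfl fun k _ => by ring
      _ = 0 := by rw [h3, mul_zero]
  have h1 := LinearMap.finrank_range_add_finrank_ker L
  have h2 : finrank K (LinearMap.range L) ≤ finrank K W := (Submodule.finrank_le _).trans (by simp)
  have h3 := Submodule.finrank_mono hker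
  rw [Module.finrank_fin_fun] at h1
  omega

theorem isCompl_perp (W : Submodule K (Fin n → K)) (h : W ⊓ perp s W = ⊥) : IsCompl W (perp s W) := by
  refine ⟨disjoint_iff.2 h, codisjoint_iff.2 (Submodule.eq_top_of_finrank_eq ?_)⟩
  have h1 := Submodule.finrank_sup_add_finrank_inf_eq W (perp s W)
  rw [h, finrank_bot, add_zero] at h1
  have h2 := finrank_perp_ge hs W
  have h3 := Submodule.finrank_le (W ⊔ perp s W)
  rw [Module.finrank_fin_fun] at h3 ⊢
  omega

section element

variable [Fintype K] {a : Matrix (Fin n) (Fin n) K} (ha : st s a * a = 1)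
include ha

theorem hf_map (x y : Fin n → K) : hf s (a *ᵥ x) (a *ᵥ y) = hf s x y := by
  rw [hf_adj hs, Matrix.mulVec_mulVec, ha, Matrix.one_mulVec]

theorem surj_on {W : Submodule K (Fin n → K)} (hW : ∀ w ∈ W, a *ᵥ w ∈ W) {w : Fin n → K} (hw : w ∈ W) :
    ∃ w' ∈ W, a *ᵥ w' = w := by
  let L : W →ₗ[K] W := a.mulVecLin.restrict hW
  have hinj : Function.Injective L := by
    intro x y hxy
    have h1 : a *ᵥ (x : Fin n → K) = a *ᵥ (y : Fin n → K) := congrArg Subtype.val hxy
    exact Subtype.ext (by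
      have := congrArg (st s a *ᵥ ·) h1
      simpa [Matrix.mulVec_mulVec, ha] using this)
  obtain ⟨w', hw'⟩ := LinearMap.injective_iff_surjective.1 hinj ⟨w, hw⟩
  exact ⟨w'.1, w'.2, congrArg Subtype.val hw'⟩

theorem perp_inv {W : Submodule K (Fin n → K)} (hW : ∀ w ∈ W, a *ᵥ w ∈ W) :
    ∀ y ∈ perp s W, a *ᵥ y ∈ perp s W := by
  intro y hy x hx
  obtain ⟨x', hx', rfl⟩ := surj_on hs ha hW hx
  rw [hf_map hs ha]
  exact hy x' hx'

/-- The data for the determinant correction. -/
theorem exists_pair (hn : 0 < n) (hss : Module.End.IsSemisimple (Matrix.toLinAlgEquiv' a)) :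
    ∃ U₁ U₂ C₁ C₂ : Submodule K (Fin n → K), IsCompl U₁ C₁ ∧ IsCompl U₂ C₂ ∧
      (∀ w ∈ U₁, a *ᵥ w ∈ U₁) ∧ (∀ w ∈ C₁, a *ᵥ w ∈ C₁) ∧ U₁ ≠ ⊥ ∧
      (∀ W ≤ U₁, (∀ w ∈ W, a *ᵥ w ∈ W) → W = ⊥ ∨ W = U₁) ∧
      (∀ u ∈ U₁, ∀ c ∈ C₂, hf s u c = 0) ∧ (∀ c ∈ C₁, ∀ u ∈ U₂, hf s c u = 0) ∧
      ((U₂ = U₁ ∧ C₂ = C₁) ∨ (U₂ ≤ C₁ ∧ U₁ ≤ C₂)) := by
  classical
  have hinv : ∀ W : Submodule K (Fin n → K), (∀ w ∈ W, a *ᵥ w ∈ W) →
      ∀ U ≤ W, (∀ u ∈ U, a *ᵥ u ∈ U) → ∃ D ≤ W, (∀ d ∈ D, a *ᵥ d ∈ D) ∧ U ⊓ D = ⊥ ∧ U ⊔ D = W := by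
    intro W hW U hUW hU
    obtain ⟨C, hC, hUC⟩ := (Module.End.isSemisimple_iff.mp hss) U
      ((Module.End.mem_invtSubmodule _).mpr fun u hu => hU u hu)
    rw [Module.End.mem_invtSubmodule] at hC
    refine ⟨C ⊓ W, inf_le_right, fun d hd => ⟨hC hd.1, hW d hd.2⟩, ?_, ?_⟩
    · rw [eq_bot_iff]
      exact (inf_le_inf_left U inf_le_left).trans hUC.disjoint.le_bot
    · rw [← sup_inf_assoc_of_le C hUW, hUC.sup_eq_top, top_inf_eq]
  obtain ⟨U₁, ⟨hU0, hU1⟩, hmin⟩ := (wellFounded_lt (α := Submodule K (Fin n → K))).has_min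
    {W | W ≠ ⊥ ∧ ∀ w ∈ W, a *ᵥ w ∈ W}
    ⟨⊤, by
      haveI : Nonempty (Fin n) := ⟨⟨0, hn⟩⟩
      exact top_ne_bot, fun w _ => Submodule.mem_top⟩
  have hsimple : ∀ U : Submodule K (Fin n → K), (∀ W < U, ¬ (W ≠ ⊥ ∧ ∀ w ∈ W, a *ᵥ w ∈ W)) →
      ∀ W ≤ U, (∀ w ∈ W, a *ᵥ w ∈ W) → W = ⊥ ∨ W = U := by
    intro U hU W hW hWi
    by_contra hc
    push Not at hc
    exact hU W (lt_of_le_of_ne hW hc.2) ⟨hc.1, hWi⟩
  have hs1 := hsimple U₁ fun W hW h => hmin W h hW
  have hrad : ∀ U V : Submodule K (Fin n → K), (∀ w ∈ U, a *ᵥ w ∈ U) → (∀ w ∈ V, a *ᵥ w ∈ V) →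
      ∀ w ∈ U ⊓ perp s V, a *ᵥ w ∈ U ⊓ perp s V := fun U V hU hV w hw =>
    ⟨hU w hw.1, perp_inv hs ha hV w hw.2⟩
  by_cases h1 : U₁ ⊓ perp s U₁ = ⊥
  · exact ⟨U₁, U₁, perp s U₁, perp s U₁, isCompl_perp hs U₁ h1, isCompl_perp hs U₁ h1, hU1, perp_inv hs ha hU1,
      hU0, hs1, fun u hu c hc => by rw [hf_symm hs, hc u hu, map_zero], fun c hc u hu => hc u hu,
      Or.inl ⟨rfl, rfl⟩⟩
  have hTI : U₁ ≤ perp s U₁ := by
    rcases hs1 _ inf_le_left (hrad U₁ U₁ hU1 hU1) with h | h
    · exact absurd h h1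
    · exact inf_eq_left.1 h
  obtain ⟨U₂, ⟨hU2, hU2n⟩, hmin2⟩ := (wellFounded_lt (α := Submodule K (Fin n → K))).has_min
    {W | (∀ w ∈ W, a *ᵥ w ∈ W) ∧ ¬ W ≤ perp s U₁}
    ⟨⊤, fun w _ => Submodule.mem_top, fun h => by
      obtain ⟨x, hx, hx0⟩ := Submodule.exists_mem_ne_zero_of_ne_bot hU0
      refine hx0 (funext fun i => ?_)
      have h2 : hf s (Pi.single i 1) x = 0 := h (Submodule.mem_top) x hx
      rw [hf, single_dotProduct, one_mul, Function.comp_apply] at h2
      exact (map_eq_zero_iff s (Function.Involutive.injective hs)).1 h2⟩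
  have hs2 : ∀ W ≤ U₂, (∀ w ∈ W, a *ᵥ w ∈ W) → W = ⊥ ∨ W = U₂ := by
    intro W hW hWi
    obtain ⟨D, hD, hDi, hWD, hWDs⟩ := hinv U₂ hU2 W hW hWi
    by_cases hWp : W ≤ perp s U₁
    · left
      have : D = U₂ := eq_of_le_of_not_lt hD (hmin2 D ⟨hDi, fun h => hU2n (hWDs ▸ sup_le hWp h)⟩)
      rw [this, inf_eq_left.2 hW] at hWD
      exact hWD
    · exact Or.inr (eq_of_le_of_not_lt hW (hmin2 W ⟨hWi, hWp⟩))
  have hU20 : U₂ ≠ ⊥ := fun h => hU2n (h ▸ bot_le)
  by_cases h2 : U₂ ⊓ perp s U₂ = ⊥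
  · exact ⟨U₂, U₂, perp s U₂, perp s U₂, isCompl_perp hs U₂ h2, isCompl_perp hs U₂ h2, hU2, perp_inv hs ha hU2,
      hU20, hs2, fun u hu c hc => by rw [hf_symm hs, hc u hu, map_zero], fun c hc u hu => hc u hu,
      Or.inl ⟨rfl, rfl⟩⟩
  have hTI2 : U₂ ≤ perp s U₂ := by
    rcases hs2 _ inf_le_left (hrad U₂ U₂ hU2 hU2) with h | h
    · exact absurd h h2
    · exact inf_eq_left.1 h
  have h12 : U₁ ⊓ perp s U₂ = ⊥ := by
    refine (hs1 _ inf_le_left (hrad U₁ U₂ hU1 hU2)).resolve_right fun h => hU2n fun y hy x hx => ?_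
    rw [hf_symm hs, (inf_eq_left.1 h) hx y hy, map_zero]
  have h21 : U₂ ⊓ perp s U₁ = ⊥ :=
    (hs2 _ inf_le_left (hrad U₂ U₁ hU2 hU1)).resolve_right fun h => hU2n (inf_eq_left.1 h)
  set U := U₁ ⊔ U₂ with hU
  have hUi : ∀ w ∈ U, a *ᵥ w ∈ U := by
    intro w hw
    obtain ⟨x, hx, y, hy, rfl⟩ := Submodule.mem_sup.1 hw
    rw [Matrix.mulVec_add]
    exact Submodule.add_mem_sup (hU1 x hx) (hU2 y hy)
  have hnd : U ⊓ perp s U = ⊥ := by
    rw [Submodule.eq_bot_iff]
    rintro z ⟨hz, hzp⟩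
    obtain ⟨x, hx, y, hy, rfl⟩ := Submodule.mem_sup.1 hz
    have hx0 : x = 0 := by
      refine (Submodule.eq_bot_iff _).1 h12 x ⟨hx, fun w hw => ?_⟩
      have h3 := hzp w (Submodule.mem_sup_right hw)
      rwa [hf_add_left, hTI2 hy w hw, add_zero] at h3
    have hy0 : y = 0 := by
      refine (Submodule.eq_bot_iff _).1 h21 y ⟨hy, fun w hw => ?_⟩
      have h3 := hzp w (Submodule.mem_sup_left hw)
      rwa [hf_add_left, hTI hx w hw, zero_add] at h3
    rw [hx0, hy0, add_zero]
  have hc := isCompl_perp hs U hnd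
  have hsplit : ∀ A B : Submodule K (Fin n → K), A ⊔ B = U → A ⊓ B = ⊥ → IsCompl A (B ⊔ perp s U) := by
    intro A B hAB hABi
    refine ⟨Submodule.disjoint_def.2 fun z hzA hzB => ?_, codisjoint_iff.2 ?_⟩
    · obtain ⟨b, hb, p, hp, rfl⟩ := Submodule.mem_sup.1 hzB
      have hbU : b ∈ U := hAB ▸ Submodule.mem_sup_right hb
      have hpU : p ∈ U := by
        have := U.sub_mem (hAB ▸ Submodule.mem_sup_left hzA : b + p ∈ U) hbU
        rwa [add_sub_cancel_left] at this
      have hp0 : p = 0 := (Submodule.eq_bot_iff _).1 hnd p ⟨hpU, hp⟩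
      subst hp0
      rw [add_zero] at hzA ⊢
      exact (Submodule.eq_bot_iff _).1 hABi b ⟨hzA, hb⟩
    · rw [← sup_assoc, hAB, hc.sup_eq_top]
  have h12' : U₁ ⊓ U₂ = ⊥ := by
    rw [eq_bot_iff, ← h12]
    exact inf_le_inf_left _ hTI2
  refine ⟨U₁, U₂, U₂ ⊔ perp s U, U₁ ⊔ perp s U, hsplit U₁ U₂ rfl h12', hsplit U₂ U₁ (sup_comm U₂ U₁) (inf_comm U₁ U₂ ▸ h12'),
    hU1, ?_, hU0, hs1, ?_, ?_, Or.inr ⟨le_sup_left, le_sup_left⟩⟩
  · intro w hw
    obtain ⟨x, hx, y, hy, rfl⟩ := Submodule.mem_sup.1 hw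
    rw [Matrix.mulVec_add]
    exact Submodule.add_mem_sup (hU2 x hx) (perp_inv hs ha hUi y hy)
  · intro u hu c hc'
    obtain ⟨x, hx, y, hy, rfl⟩ := Submodule.mem_sup.1 hc'
    rw [hf_add_right, hTI hu x hx, hf_symm hs, hy u (Submodule.mem_sup_left hu), map_zero, add_zero]
  · intro c hc' u hu
    obtain ⟨x, hx, y, hy, rfl⟩ := Submodule.mem_sup.1 hc'
    rw [hf_add_left, hTI2 hx u hu, hy u (Submodule.mem_sup_right hu), add_zero]

omit ha hs in
/-- Polynomials in an element commute with what commutes with it. -/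
theorem commute_aeval {A : Type*} [Semiring A] [Algebra K A] {x y : A} (h : Commute x y) (P : K[X]) :
    Commute (aeval x P) y := by
  induction P using Polynomial.induction_on' with
  | add p q hp hq => rw [map_add]; exact hp.add_left hq
  | monomial k c =>
    rw [aeval_monomial]
    exact (show Commute (algebraMap K A c) y from Algebra.commutes c y).mul_left (h.pow_left k)

omit ha hs in
/-- The projection matrix of a decomposition. -/
theorem exists_proj {U C : Submodule K (Fin n → K)} (h : IsCompl U C) :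
    ∃ e : Matrix (Fin n) (Fin n) K, (∀ u ∈ U, e *ᵥ u = u) ∧ (∀ c ∈ C, e *ᵥ c = 0) ∧ ∀ v, e *ᵥ v ∈ U := by
  refine ⟨LinearMap.toMatrix' (U.subtype.comp (U.linearProjOfIsCompl C h)), fun u hu => ?_, fun c hc => ?_,
    fun v => ?_⟩ <;> rw [LinearMap.toMatrix'_mulVec]
  · show (U.linearProjOfIsCompl C h u : Fin n → K) = u
    rw [show U.linearProjOfIsCompl C h u = ⟨u, hu⟩ from Submodule.linearProjOfIsCompl_apply_left h ⟨u, hu⟩]
  · show (U.linearProjOfIsCompl C h c : Fin n → K) = 0
    rw [show U.linearProjOfIsCompl C h c = 0 from Submodule.linearProjOfIsCompl_apply_right h ⟨c, hc⟩]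
    rfl
  · exact (U.linearProjOfIsCompl C h v).2

/-- A semisimple unitary element commutes with unitary matrices of every norm-one determinant. -/
theorem exists_det (hn : 0 < n) (hss : Module.End.IsSemisimple (Matrix.toLinAlgEquiv' a)) (d : Kˣ) :
    ∃ z : Matrix (Fin n) (Fin n) K, st s z * z = 1 ∧ z * a = a * z ∧ z.det * s (d : K) = d := by
  classical
  obtain ⟨U, U', C, C', hUC, hUC', hU, hC, hU0, hsimp, hor, hor', hcase⟩ := exists_pair hs ha hn hss
  obtain ⟨e, he1, he0, heU⟩ := exists_proj hUC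
  obtain ⟨e', he1', he0', heU'⟩ := exists_proj hUC'
  haveI : Nontrivial U := Submodule.nontrivial_iff_ne_bot.mpr hU0
  have haU : ∀ w ∈ U, Matrix.toLinAlgEquiv' a w ∈ U := fun w hw => hU w hw
  obtain ⟨g, hg, hdet⟩ := CentralizerDet.exists_det_of_simple ((Matrix.toLinAlgEquiv' a).restrict haU) (fun W hW => by
    rcases hsimp (W.map U.subtype) (Submodule.map_subtype_le U W) (by
      rintro _ ⟨w, hw, rfl⟩
      exact ⟨_, hW w hw, rfl⟩) with h | h
    · exact Or.inl (Submodule.map_injective_of_injective (f := U.subtype) U.injective_subtype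
        (h.trans (Submodule.map_bot _).symm))
    · exact Or.inr (Submodule.map_injective_of_injective (f := U.subtype) U.injective_subtype
        (h.trans (Submodule.map_subtype_top U).symm))) d
  let Φ : (Fin n → K) →ₗ[K] (Fin n → K) := U.subtype.comp (g.comp (U.linearProjOfIsCompl C hUC))
  set M := LinearMap.toMatrix' Φ with hMdef
  have hM : ∀ v, M *ᵥ v = (g (U.linearProjOfIsCompl C hUC v) : Fin n → K) := fun v =>
    LinearMap.toMatrix'_mulVec _ _
  have hdec : ∀ v, v - e *ᵥ v ∈ C := by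
    intro v
    obtain ⟨x, hx, y, hy, rfl⟩ := Submodule.mem_sup.1 (hUC.sup_eq_top ▸ Submodule.mem_top : v ∈ U ⊔ C)
    rw [Matrix.mulVec_add, he1 x hx, he0 y hy, add_zero, add_sub_cancel_left]
    exact hy
  have hdec' : ∀ v, v - e' *ᵥ v ∈ C' := by
    intro v
    obtain ⟨x, hx, y, hy, rfl⟩ := Submodule.mem_sup.1 (hUC'.sup_eq_top ▸ Submodule.mem_top : v ∈ U' ⊔ C')
    rw [Matrix.mulVec_add, he1' x hx, he0' y hy, add_zero, add_sub_cancel_left]
    exact hy
  have hste : st s e = e' := by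
    refine ext_hf hs fun x y => ?_
    rw [← hf_adj hs]
    have h1 : hf s (e *ᵥ x) y = hf s (e *ᵥ x) (e' *ᵥ y) := by
      conv_lhs => rw [← add_sub_cancel (e' *ᵥ y) y, hf_add_right, hor _ (heU x) _ (hdec' y), add_zero]
    have h2 : hf s x (e' *ᵥ y) = hf s (e *ᵥ x) (e' *ᵥ y) := by
      conv_lhs => rw [← add_sub_cancel (e *ᵥ x) x, hf_add_left, hor' _ (hdec x) _ (heU' y), add_zero]
    rw [h1, h2]
  have hMe : M * e = M := by
    refine Matrix.toLin'.injective (LinearMap.ext fun v => ?_)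
    simp only [Matrix.toLin'_apply, ← Matrix.mulVec_mulVec, hM]
    congr 2
    conv_rhs => rw [← add_sub_cancel (e *ᵥ v) v, map_add,
      show U.linearProjOfIsCompl C hUC (v - e *ᵥ v) = 0 from
        Submodule.linearProjOfIsCompl_apply_right hUC ⟨_, hdec v⟩, add_zero]
  have heM : e * M = M := by
    refine Matrix.toLin'.injective (LinearMap.ext fun v => ?_)
    simp only [Matrix.toLin'_apply, ← Matrix.mulVec_mulVec, hM]
    exact he1 _ (g _).2
  have hea : e * a = a * e := by
    refine Matrix.toLin'.injective (LinearMap.ext fun v => ?_)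
    simp only [Matrix.toLin'_apply, ← Matrix.mulVec_mulVec]
    conv_lhs => rw [← add_sub_cancel (e *ᵥ v) v, Matrix.mulVec_add, Matrix.mulVec_add,
      he1 _ (hU _ (heU v)), he0 _ (hC _ (hdec v)), add_zero]
  have hMa : M * a = a * M := by
    refine Matrix.toLin'.injective (LinearMap.ext fun v => ?_)
    simp only [Matrix.toLin'_apply, ← Matrix.mulVec_mulVec, hM]
    have h1 : U.linearProjOfIsCompl C hUC (a *ᵥ v) =
        (Matrix.toLinAlgEquiv' a).restrict haU (U.linearProjOfIsCompl C hUC v) := by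
      refine Subtype.ext ?_
      show _ = a *ᵥ (U.linearProjOfIsCompl C hUC v : Fin n → K)
      obtain ⟨x, hx, y, hy, rfl⟩ := Submodule.mem_sup.1 (hUC.sup_eq_top ▸ Submodule.mem_top : v ∈ U ⊔ C)
      rw [Matrix.mulVec_add, map_add, map_add,
        show U.linearProjOfIsCompl C hUC (a *ᵥ x) = ⟨_, hU x hx⟩ from
          Submodule.linearProjOfIsCompl_apply_left hUC ⟨_, hU x hx⟩,
        show U.linearProjOfIsCompl C hUC (a *ᵥ y) = 0 from
          Submodule.linearProjOfIsCompl_apply_right hUC ⟨_, hC y hy⟩,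
        show U.linearProjOfIsCompl C hUC x = ⟨x, hx⟩ from Submodule.linearProjOfIsCompl_apply_left hUC ⟨x, hx⟩,
        show U.linearProjOfIsCompl C hUC y = 0 from Submodule.linearProjOfIsCompl_apply_right hUC ⟨y, hy⟩]
      simp
    rw [h1, show g ((Matrix.toLinAlgEquiv' a).restrict haU (U.linearProjOfIsCompl C hUC v)) =
      (Matrix.toLinAlgEquiv' a).restrict haU (g (U.linearProjOfIsCompl C hUC v)) from LinearMap.congr_fun hg.eq _]
    rfl
  have hasa : a * st s a = 1 := mul_eq_one_comm.1 ha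
  have hflip : ∀ X : Matrix (Fin n) (Fin n) K, X * a = a * X → X * st s a = st s a * X := fun X hX => by
    calc X * st s a = st s a * a * X * st s a := by rw [ha, one_mul]
      _ = st s a * X * (a * st s a) := by rw [mul_assoc (st s a) a X, ← hX]; noncomm_ring
      _ = st s a * X := by rw [hasa, mul_one]
  have hstcomm : ∀ X : Matrix (Fin n) (Fin n) K, X * a = a * X → st s X * a = a * st s X := fun X hX => by
    have := congrArg (st s) (hflip X hX)
    rw [st_mul, st_mul, st_st hs] at this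
    exact this.symm
  set T := M + (1 - e) with hT
  set T' := st s M + (1 - e') with hT'
  have hstT : st s T = T' := by rw [hT, st_add, st_sub, st_one, hste]
  have hTT : T * T' = T' * T := by
    rcases hcase with ⟨rfl, rfl⟩ | ⟨hle1, hle2⟩
    · have hee : e = e' := by
        refine Matrix.toLin'.injective (LinearMap.ext fun v => ?_)
        simp only [Matrix.toLin'_apply]
        obtain ⟨x, hx, y, hy, rfl⟩ := Submodule.mem_sup.1 (hUC.sup_eq_top ▸ Submodule.mem_top : v ∈ U' ⊔ C')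
        rw [Matrix.mulVec_add, Matrix.mulVec_add, he1 x hx, he1' x hx, he0 y hy, he0' y hy]
      obtain ⟨v₀, hv₀⟩ := exists_ne (0 : U')
      let R : Submodule K U' :=
        LinearMap.range ((LinearMap.applyₗ v₀).comp (aeval ((Matrix.toLinAlgEquiv' a).restrict haU)).toLinearMap)
      have hR : R = ⊤ := by
        have hRi : ∀ w ∈ R, (Matrix.toLinAlgEquiv' a).restrict haU w ∈ R := by
          rintro _ ⟨P, rfl⟩
          refine ⟨X * P, ?_⟩
          simp
        rcases hsimp (R.map U'.subtype) (Submodule.map_subtype_le U' R) (by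
          rintro _ ⟨w, hw, rfl⟩
          exact ⟨_, hRi w hw, rfl⟩) with h | h
        · exfalso
          have h0 : ((v₀ : U') : Fin n → K) ∈ R.map U'.subtype := ⟨v₀, ⟨1, by simp⟩, rfl⟩
          rw [h, Submodule.mem_bot] at h0
          exact hv₀ (Subtype.ext h0)
        · exact Submodule.map_injective_of_injective (f := U'.subtype) U'.injective_subtype
            (h.trans (Submodule.map_subtype_top U').symm)
      obtain ⟨P, hP⟩ := (hR ▸ Submodule.mem_top : g v₀ ∈ R)
      have hgP : ∀ u, g u = aeval ((Matrix.toLinAlgEquiv' a).restrict haU) P u := by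
        intro u
        obtain ⟨S, rfl⟩ := (hR ▸ Submodule.mem_top : u ∈ R)
        simp only [LinearMap.comp_apply, AlgHom.toLinearMap_apply, LinearMap.applyₗ_apply_apply] at hP ⊢
        have hgc : Commute g (aeval ((Matrix.toLinAlgEquiv' a).restrict haU) S) :=
          (commute_aeval (show Commute ((Matrix.toLinAlgEquiv' a).restrict haU) g from hg.symm) S).symm
        rw [show g (aeval ((Matrix.toLinAlgEquiv' a).restrict haU) S v₀) =
          aeval ((Matrix.toLinAlgEquiv' a).restrict haU) S (g v₀) from LinearMap.congr_fun hgc.eq v₀, ← hP]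
        exact LinearMap.congr_fun ((Commute.all S P).map (aeval ((Matrix.toLinAlgEquiv' a).restrict haU))).eq v₀
      have hMP : M = aeval a P * e := by
        refine Matrix.toLin'.injective (LinearMap.ext fun v => ?_)
        simp only [Matrix.toLin'_apply, ← Matrix.mulVec_mulVec, hM, hgP]
        have h1 : ∀ (S : K[X]) (u : U'), (aeval ((Matrix.toLinAlgEquiv' a).restrict haU) S u : Fin n → K) =
            aeval a S *ᵥ (u : Fin n → K) := by
          intro S
          induction S using Polynomial.induction_on with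
          | C c => intro u; simp [Algebra.algebraMap_eq_smul_one, Matrix.smul_mulVec]
          | add p q hp hq => intro u; simp [hp, hq, Matrix.add_mulVec]
          | monomial i c ih =>
            intro u
            rw [pow_succ, ← mul_assoc, map_mul _ _ X, map_mul _ _ X, aeval_X, aeval_X, Module.End.mul_apply,
              ← Matrix.mulVec_mulVec, ih]
            rfl
        rw [h1]
        congr 1
        conv_lhs => rw [← add_sub_cancel (e *ᵥ v) v, map_add,
          show U'.linearProjOfIsCompl C' hUC (v - e *ᵥ v) = 0 from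
            Submodule.linearProjOfIsCompl_apply_right hUC ⟨_, hdec v⟩, add_zero,
          show U'.linearProjOfIsCompl C' hUC (e *ᵥ v) = ⟨_, heU v⟩ from
            Submodule.linearProjOfIsCompl_apply_left hUC ⟨_, heU v⟩]
      have hpa : ∀ X : Matrix (Fin n) (Fin n) K, X * a = a * X → Commute (aeval a P) X := fun X hX =>
        commute_aeval (show Commute a X from hX.symm) P
      have hMcomm : ∀ X : Matrix (Fin n) (Fin n) K, X * a = a * X → Commute X e → Commute M X := fun X hX hXe => by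
        rw [hMP]; exact (hpa X hX).mul_left hXe.symm
      have hse : st s e = e := hste.trans hee.symm
      have hsMe : Commute (st s M) e := by
        have h1 : Commute M e := hMe.trans heM.symm
        have h2 := congrArg (st s) h1.eq
        rw [st_mul, st_mul, hse] at h2
        exact h2.symm
      have hMM : Commute M (st s M) := hMcomm _ (hstcomm M hMa) hsMe
      rw [hT, hT', ← hee]
      exact ((hMM.add_left ((Commute.one_left (st s M)).sub_left hsMe.symm)).add_right
        (((Commute.one_right M).sub_right (hMe.trans heM.symm)).add_left (Commute.refl (1 - e)))).eq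
    · have hee : e * e' = 0 := by
        refine Matrix.toLin'.injective (LinearMap.ext fun v => ?_)
        simp only [Matrix.toLin'_apply, ← Matrix.mulVec_mulVec, he0 _ (hle1 (heU' v)), Matrix.zero_mulVec]
      have hee' : e' * e = 0 := by
        refine Matrix.toLin'.injective (LinearMap.ext fun v => ?_)
        simp only [Matrix.toLin'_apply, ← Matrix.mulVec_mulVec, he0' _ (hle2 (heU v)), Matrix.zero_mulVec]
      have hsM1 : e' * st s M = st s M := by rw [← hste, ← st_mul, hMe]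
      have hsM2 : st s M * e' = st s M := by rw [← hste, ← st_mul, heM]
      have z1 : M * st s M = 0 := by
        calc M * st s M = (M * e) * (e' * st s M) := by rw [hMe, hsM1]
          _ = 0 := by rw [mul_assoc, ← mul_assoc e, hee, zero_mul, mul_zero]
      have z2 : st s M * M = 0 := by
        calc st s M * M = (st s M * e') * (e * M) := by rw [hsM2, heM]
          _ = 0 := by rw [mul_assoc, ← mul_assoc e', hee', zero_mul, mul_zero]
      have z3 : M * e' = 0 := by rw [← hMe, mul_assoc, hee, mul_zero]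
      have z4 : e * st s M = 0 := by rw [← hsM1, ← mul_assoc, hee, zero_mul]
      have z5 : e' * M = 0 := by rw [← heM, ← mul_assoc, hee', zero_mul]
      have z6 : st s M * e = 0 := by rw [← hsM2, mul_assoc, hee', mul_zero]
      rw [hT, hT']
      simp only [add_mul, mul_add, sub_mul, mul_sub, mul_one, one_mul, z1, z2, z3, z4, z5, z6, hee, hee']
      abel
  have hTdet : T.det = d := by
    have h1 : Matrix.toLin' T = ((Submodule.prodEquivOfIsCompl U C hUC : _ →ₗ[K] (Fin n → K)) ∘ₗ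
        (LinearMap.prodMap g (1 : Module.End K C)) ∘ₗ
          ((Submodule.prodEquivOfIsCompl U C hUC).symm : (Fin n → K) →ₗ[K] _)) := by
      refine LinearMap.ext fun v => ?_
      obtain ⟨⟨x, y⟩, rfl⟩ := (Submodule.prodEquivOfIsCompl U C hUC).surjective v
      simp only [LinearMap.comp_apply, LinearEquiv.coe_coe, LinearEquiv.symm_apply_apply]
      rw [Matrix.toLin'_apply, LinearMap.prodMap_apply, Submodule.coe_prodEquivOfIsCompl',
        Submodule.coe_prodEquivOfIsCompl', hT, Module.End.one_apply]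
      simp only [Matrix.add_mulVec, Matrix.sub_mulVec, Matrix.one_mulVec, Matrix.mulVec_add]
      rw [hM, hM, he1 _ x.2, he0 _ y.2,
        show U.linearProjOfIsCompl C hUC (x : Fin n → K) = x from Submodule.linearProjOfIsCompl_apply_left hUC x,
        show U.linearProjOfIsCompl C hUC (y : Fin n → K) = 0 from Submodule.linearProjOfIsCompl_apply_right hUC y]
      simp
    rw [← LinearMap.det_toLin', h1, LinearMap.det_conj, LinearMap.det_prodMap, hdet, map_one, mul_one]
  have hT'det : T'.det = s d := by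
    rw [← hstT, st, Matrix.det_transpose, ← RingHom.mapMatrix_apply, ← RingHom.map_det, hTdet]
  have hTu : IsUnit T.det := hTdet ▸ d.isUnit
  have hT'u : IsUnit T'.det := hT'det ▸ d.isUnit.map s
  have hTa : T * a = a * T := by rw [hT, add_mul, mul_add, hMa, sub_mul, mul_sub, one_mul, mul_one, hea]
  refine ⟨T * T'⁻¹, ?_, ?_, ?_⟩
  · have h1 : st s T'⁻¹ = T⁻¹ := by
      refine (Matrix.inv_eq_left_inv ?_).symm
      rw [← st_st hs T, hstT, ← st_mul, Matrix.mul_nonsing_inv _ hT'u, st_one]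
    rw [st_mul, h1, hstT]
    calc T⁻¹ * T' * (T * T'⁻¹) = T⁻¹ * (T' * T) * T'⁻¹ := by noncomm_ring
      _ = (T⁻¹ * T) * (T' * T'⁻¹) := by rw [← hTT]; noncomm_ring
      _ = 1 := by rw [Matrix.nonsing_inv_mul _ hTu, Matrix.mul_nonsing_inv _ hT'u, one_mul]
  · have h1 : T' * a = a * T' := hstT ▸ hstcomm T hTa
    have h2 : T'⁻¹ * a = a * T'⁻¹ := by
      calc T'⁻¹ * a = T'⁻¹ * a * (T' * T'⁻¹) := by rw [Matrix.mul_nonsing_inv _ hT'u, mul_one]
        _ = T'⁻¹ * (T' * a) * T'⁻¹ := by rw [h1]; noncomm_ring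
        _ = a * T'⁻¹ := by rw [← mul_assoc, Matrix.nonsing_inv_mul _ hT'u, one_mul]
    rw [mul_assoc, h2, ← mul_assoc, hTa, mul_assoc]
  · rw [Matrix.det_mul, Matrix.det_nonsing_inv, hTdet, hT'det, Ring.inverse_eq_inv', mul_assoc,
      inv_mul_cancel₀ ((map_ne_zero s).2 d.ne_zero), mul_one]

end element

omit hs in
/-- Semisimple elements of the special unitary group with the same characteristic polynomial are conjugate. -/
theorem su_isConj [Fintype K] {q : ℕ} (hF : Fintype.card K = q ^ 2) {p : ℕ} [Fact p.Prime] [CharP K p]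
    {g h : ↥(Cfsg.SU n K q)} (hg : (orderOf g).Coprime p) (hh : (orderOf h).Coprime p)
    (hc : g.1.1.charpoly = h.1.1.charpoly) : IsConj g h := by
  classical
  rcases Nat.eq_zero_or_pos n with rfl | hn
  · haveI : Subsingleton ↥(Cfsg.SU 0 K q) := ⟨fun x y => Subtype.ext (Subtype.ext (Subsingleton.elim _ _))⟩
    rw [Subsingleton.elim g h]
  obtain ⟨hq, σ, hσ⟩ := UnitaryBasic.frob_exists hF
  have hσ2 : ∀ x, σ (σ x) = x := fun x => by rw [hσ, hσ, ← pow_mul, ← sq, ← hF, FiniteField.pow_card]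
  have hform : ∀ u v : Fin n → K, Cfsg.hermForm n K q u v = hf σ u v := fun u v => by
    simp [Cfsg.hermForm, hf, dotProduct, hσ]
  have mem_iff : ∀ x : GL (Fin n) K, x ∈ Cfsg.GU n K q ↔ st σ x.1 * x.1 = 1 := by
    intro x
    constructor
    · intro hx
      refine ext_hf hσ2 fun u v => ?_
      rw [← Matrix.mulVec_mulVec, ← hf_adj hσ2, Matrix.one_mulVec, ← hform, ← hform]
      exact hx u v
    · intro hx u v
      show Cfsg.hermForm n K q (x.1 *ᵥ u) (x.1 *ᵥ v) = Cfsg.hermForm n K q u v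
      rw [hform, hform, hf_map hσ2 hx]
  let ι : ↥(Cfsg.SU n K q) →* ↥(Cfsg.GU n K q) :=
    { toFun := fun x => ⟨Matrix.SpecialLinearGroup.toGL x.1, fun u v => x.2 u v⟩
      map_one' := Subtype.ext (map_one Matrix.SpecialLinearGroup.toGL)
      map_mul' := fun x y => Subtype.ext (map_mul Matrix.SpecialLinearGroup.toGL x.1 y.1) }
  have hinj : Function.Injective (((Cfsg.GU n K q).subtype).comp ι) := fun x y e =>
    Subtype.ext (Subtype.ext (congrArg Units.val e))
  have hss : ∀ x : ↥(Cfsg.SU n K q), (orderOf x).Coprime p →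
      Module.End.IsSemisimple (Matrix.toLinAlgEquiv' x.1.1) := fun x hx =>
    SemisimpleClasses.isSemisimple_of_coprime ((ι x).1) (by
      rw [show (ι x).1 = ((Cfsg.GU n K q).subtype).comp ι x from rfl, orderOf_injective _ hinj]; exact hx)
  obtain ⟨P, hP⟩ := SemisimpleClasses.exists_conj (hss g hg) (hss h hh) hc
  obtain ⟨k, hk⟩ := _root_.isConj_iff.1 (UnitaryConj.isConj_GU hF (ι g) (ι h) (_root_.isConj_iff.2
    ⟨P, by rw [mul_inv_eq_iff_eq_mul]; exact Units.ext hP⟩))
  set δ := Matrix.GeneralLinearGroup.det k.1 with hδdef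
  have hδ : δ ^ (q + 1) = 1 := UnitaryBasic.det_pow hF k.2
  set μ : K := ((δ⁻¹ : Kˣ) : K) with hμdef
  have hμ : μ * σ μ = 1 := by
    rw [hσ, ← pow_succ', hμdef, ← Units.val_pow_eq_pow_val, inv_pow, hδ, inv_one, Units.val_one]
  obtain ⟨y, hy0, hy⟩ : ∃ y : K, y ≠ 0 ∧ μ * σ y = y := by
    have hne : ∃ a, σ a ≠ a := by
      obtain ⟨ζ, hζ⟩ := UnitaryBasic.exists_zeta hF
      refine ⟨ζ, fun he => ?_⟩
      rw [hσ] at he
      have h1 : ζ ^ (q - 1) = 1 := Units.ext (by
        have h2 : (ζ : K) ^ (q - 1) * ζ = 1 * ζ := by rw [← pow_succ, Nat.sub_add_cancel (by omega), he, one_mul]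
        simpa using mul_right_cancel₀ ζ.ne_zero h2)
      have h3 := Nat.le_of_dvd (by omega) (hζ ▸ orderOf_dvd_of_pow_eq_one h1)
      omega
    obtain ⟨a, ha⟩ := hne
    by_cases h1 : 1 + μ * σ 1 = 0
    · refine ⟨a + μ * σ a, fun h2 => ha ?_, by rw [map_add, map_mul, hσ2]; linear_combination a * hμ⟩
      rw [map_one, mul_one] at h1
      rw [eq_neg_of_add_eq_zero_right h1] at h2
      linear_combination -h2
    · exact ⟨_, h1, by rw [map_add, map_mul, hσ2, map_one]; linear_combination hμ⟩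
  obtain ⟨z, hz, hza, hzdet⟩ := exists_det hσ2 (a := g.1.1) ((mem_iff _).1 (ι g).2) hn (hss g hg) (Units.mk0 y hy0)
  have hzd : z.det = μ := mul_right_cancel₀ ((map_ne_zero σ).2 hy0) (hzdet.trans hy.symm)
  let zg : GL (Fin n) K := Matrix.GeneralLinearGroup.mkOfDetNeZero z (by rw [hzd, hμdef]; exact Units.ne_zero _)
  have hzmem : zg ∈ Cfsg.GU n K q := (mem_iff _).2 hz
  let kz : ↥(Cfsg.GU n K q) := k * ⟨zg, hzmem⟩
  have hdet : kz.1.1.det = 1 := by
    show (k.1.1 * z).det = 1
    rw [Matrix.det_mul, hzd, show k.1.1.det = (δ : K) from rfl, hμdef, ← Units.val_mul, mul_inv_cancel,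
      Units.val_one]
  let kS : ↥(Cfsg.SU n K q) := ⟨⟨kz.1.1, hdet⟩, fun u v => kz.2 u v⟩
  refine _root_.isConj_iff.2 ⟨kS, ?_⟩
  rw [mul_inv_eq_iff_eq_mul] at hk ⊢
  refine Subtype.ext (Subtype.ext ?_)
  show k.1.1 * z * g.1.1 = h.1.1 * (k.1.1 * z)
  rw [mul_assoc, hza, ← mul_assoc, ← mul_assoc]
  congr 1
  exact congrArg (fun w : ↥(Cfsg.GU n K q) => w.1.1) hk

end CfsgLib.SemisimpleUnitary
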