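/-
Semisimple conjugacy in symplectic and orthogonal groups over finite fields.
-/
import Cfsg.Agent.Lib.SemisimpleIso.Symp
import Cfsg.Agent.Lib.SemisimpleClasses
import Cfsg.Agent.Lib.SympGen
import Cfsg.Agent.Lib.WittExtension
import Cfsg.Prelude.Def_Classical

set_option autoImplicit false
set_option linter.unusedSectionVars false
set_option linter.dupNamespace false

namespace CfsgLib.SemisimpleIso

open Matrix Polynomial Module

variable {F : Type*} [Field F] [Fintype F]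

theorem coprime_card {p : ℕ} [Fact p.Prime] [CharP F p] {N : ℕ} (h : N.Coprime p) :
    Nat.Coprime (Fintype.card F) N := by
  obtain ⟨k, -, hc⟩ := FiniteField.card F p
  rw [hc]
  exact Nat.Coprime.pow_left _ h.symm

/-- Semisimple symplectic matrices similar in `GL` are conjugate in `Sp`. -/
theorem symp_isConj {p : ℕ} [Fact p.Prime] [CharP F p] {m : ℕ} {A B : Matrix.symplecticGroup (Fin m) F}
    (hA : (orderOf A).Coprime p) (h : IsConj A.1 B.1) : IsConj A B := by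
  obtain ⟨x, hx⟩ := h
  have hJ := Matrix.isUnit_det_J (Fin m) F
  have hiso : ∀ C : Matrix.symplecticGroup (Fin m) F, adj (Matrix.J (Fin m) F) C.1 * C.1 = 1 := fun C => by
    rw [adj, Matrix.mul_assoc, Matrix.mul_assoc, ← Matrix.mul_assoc C.1ᵀ, SymplecticGroup.mem_iff'.1 C.2,
      Matrix.nonsing_inv_mul _ hJ]
  have hN : A.1 ^ orderOf A = 1 := congrArg Subtype.val (pow_orderOf_eq_one A)
  obtain ⟨K, hK, hKA⟩ := exists_isometry_alt (coprime_card hA) (orderOf_pos A) hJ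
    (fun v => SympTransvection.dot_J_self v) (Matrix.J_transpose (Fin m) F) hN (hiso A) (hiso B) x.isUnit hx
  have hmem : K ∈ Matrix.symplecticGroup (Fin m) F := by
    refine SymplecticGroup.mem_iff'.2 ?_
    calc Kᵀ * Matrix.J (Fin m) F * K =
        Matrix.J (Fin m) F * (adj (Matrix.J (Fin m) F) K * K) := by
          rw [adj, ← Matrix.mul_assoc, ← Matrix.mul_assoc, ← Matrix.mul_assoc, Matrix.mul_nonsing_inv _ hJ,
            Matrix.one_mul]
      _ = Matrix.J (Fin m) F := by rw [hK, Matrix.mul_one]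
  exact _root_.isConj_iff.2 ⟨⟨K, hmem⟩, by rw [mul_inv_eq_iff_eq_mul]; exact Subtype.ext hKA⟩

/-- Semisimple symplectic matrices with the same characteristic polynomial are conjugate in `Sp`. -/
theorem symp_isConj_of_charpoly {p : ℕ} [Fact p.Prime] [CharP F p] {m : ℕ}
    {A B : Matrix.symplecticGroup (Fin m) F} (hA : (orderOf A).Coprime p) (hB : (orderOf B).Coprime p)
    (h : A.1.charpoly = B.1.charpoly) : IsConj A B := by
  refine symp_isConj hA ?_
  let f : Fin m ⊕ Fin m ≃ Fin (m + m) := finSumFinEquiv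
  let ρ := Matrix.reindexAlgEquiv F F f
  let Φ : Matrix.symplecticGroup (Fin m) F →* GL (Fin (m + m)) F :=
    (Units.map (ρ.toAlgHom.toMonoidHom.comp (Matrix.symplecticGroup (Fin m) F).subtype)).comp toUnits.toMonoidHom
  have hΦ : Function.Injective Φ := fun a b hab => Subtype.ext (ρ.injective (congrArg Units.val hab))
  obtain ⟨P, hP⟩ := SemisimpleClasses.exists_conj
    (SemisimpleClasses.isSemisimple_of_coprime (Φ A) (by rw [orderOf_injective Φ hΦ]; exact hA))
    (SemisimpleClasses.isSemisimple_of_coprime (Φ B) (by rw [orderOf_injective Φ hΦ]; exact hB))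
    (show (Matrix.reindex f f A.1).charpoly = (Matrix.reindex f f B.1).charpoly by
      rw [Matrix.charpoly_reindex, Matrix.charpoly_reindex, h])
  refine ⟨Units.map ρ.symm.toAlgHom.toMonoidHom P, ?_⟩
  show ρ.symm P.1 * A.1 = B.1 * ρ.symm P.1
  apply ρ.injective
  rw [map_mul, map_mul, AlgEquiv.apply_symm_apply]
  exact hP

/-- Semisimple isometries of odd order similar in `GL` are conjugate in the orthogonal group. -/
theorem orth_isConj {p : ℕ} [Fact p.Prime] [CharP F p] {ι : Type} [Fintype ι] [DecidableEq ι]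
    (Q : QuadraticForm F (ι → F)) (hQ : (QuadraticMap.polarBilin Q).Nondegenerate)
    {A B : Cfsg.isometryGroup F ⇑Q} (hodd : Odd (orderOf A)) (hA : (orderOf A).Coprime p)
    (h : IsConj A.1.1 B.1.1) : IsConj A B := by
  classical
  obtain ⟨x, hx⟩ := h
  set G : Matrix ι ι F := LinearMap.BilinForm.toMatrix' (QuadraticMap.polarBilin Q) with hGdef
  have hbil : ∀ u v, bil G u v = QuadraticMap.polar Q u v := fun u v => by
    rw [← bil_toBilin, hGdef, Matrix.toBilin'_toMatrix']; rfl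
  have hG : IsUnit G.det := by
    refine isUnit_iff_ne_zero.2 (LinearMap.BilinForm.nondegenerate_toBilin'_iff_det_ne_zero.1 ?_)
    rwa [hGdef, Matrix.toBilin'_toMatrix']
  have hsym : Gᵀ = (1 : F) • G := by
    rw [one_smul]
    ext i j
    simp only [hGdef, Matrix.transpose_apply, LinearMap.BilinForm.toMatrix'_apply]
    exact QuadraticMap.polar_comm _ _ _
  have hpres : ∀ C : Cfsg.isometryGroup F ⇑Q, ∀ v, Q (C.1.1 *ᵥ v) = Q v := fun C v => C.2 v v
  have hiso : ∀ C : Cfsg.isometryGroup F ⇑Q, adj G C.1.1 * C.1.1 = 1 := fun C => by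
    rw [adj_iso_iff hG]
    intro u v
    rw [hbil, hbil, QuadraticMap.polar, QuadraticMap.polar, ← Matrix.mulVec_add, hpres, hpres, hpres]
  have hA0 := orderOf_pos A
  have hN := coprime_card (F := F) hA
  have hAN : A.1.1 ^ orderOf A = 1 :=
    congrArg (fun C : Cfsg.isometryGroup F ⇑Q => C.1.1) (pow_orderOf_eq_one A)
  obtain ⟨Y, hYu, hYA, hBN, hYiso, hYe⟩ :=
    core hG (mul_one 1) hsym hN hA0 hAN (hiso A) (hiso B) x.isUnit hx
  obtain ⟨he, hse, hec, -, heD⟩ := proj_spec hG hN hA0 hAN (hiso A)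
  obtain ⟨he', hse', -, -, -⟩ := proj_spec hG hN hA0 hBN (hiso B)
  have hfixA := odd_fix hN hA0 hG hodd hAN (hiso A)
  have hfixB := odd_fix hN hA0 hG hodd hBN (hiso B)
  set e := aeval A.1.1 (projPoly F (orderOf A))
  set e' := aeval B.1.1 (projPoly F (orderOf A))
  set t := aeval A.1.1 ((Polynomial.X - Polynomial.X ^ (orderOf A - 1)) ^ (qexp F (orderOf A) - 2) : F[X])
  set E := Y * e with hE
  have hEA : E * A.1.1 = B.1.1 * E := by rw [hE, mul_assoc, hec.eq, ← mul_assoc, hYA, mul_assoc]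
  let d : (ι → F) → F := fun v => Q (E *ᵥ v) - Q (e *ᵥ v)
  have hpol : ∀ u v, QuadraticMap.polar Q (E *ᵥ u) (E *ᵥ v) = QuadraticMap.polar Q (e *ᵥ u) (e *ᵥ v) := by
    intro u v
    rw [← hbil, ← hbil, bil_adj hG, Matrix.mulVec_mulVec, hYiso, bil_adj hG, hse, Matrix.mulVec_mulVec, he]
  have hdadd : ∀ u v, d (u + v) = d u + d v := fun u v => by
    simp only [d, Matrix.mulVec_add, QuadraticMap.map_add Q, hpol]
    ring
  have hdA : ∀ v, d (A.1.1 *ᵥ v) = d v := fun v => by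
    simp only [d, Matrix.mulVec_mulVec, hEA, hec.eq]
    simp only [← Matrix.mulVec_mulVec, hpres]
  have hdadj : ∀ v, d (adj G A.1.1 *ᵥ v) = d v := fun v => by
    rw [← hdA (adj G A.1.1 *ᵥ v), Matrix.mulVec_mulVec, mul_eq_one_comm.1 (hiso A), Matrix.one_mulVec]
  have hdzero : ∀ v, d (e *ᵥ v) = 0 := by
    intro v
    have h1 : e *ᵥ v = A.1.1 *ᵥ (t *ᵥ v) - adj G A.1.1 *ᵥ (t *ᵥ v) := by
      rw [← Matrix.sub_mulVec, Matrix.mulVec_mulVec, ← heD]
    have h2 := hdadd (A.1.1 *ᵥ (t *ᵥ v) - adj G A.1.1 *ᵥ (t *ᵥ v)) (adj G A.1.1 *ᵥ (t *ᵥ v))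
    rw [sub_add_cancel, hdA, hdadj, ← h1] at h2
    linear_combination -h2
  have hQE : ∀ v, Q (E *ᵥ v) = Q (e *ᵥ v) := fun v => by
    have := hdzero v
    simp only [d, Matrix.mulVec_mulVec, hE, mul_assoc, he, sub_eq_zero] at this
    exact this
  let U := LinearMap.range e.mulVecLin
  have hφ : ∀ u : U, Y *ᵥ (u : ι → F) = E *ᵥ (u : ι → F) := by
    rintro ⟨_, v, rfl⟩
    show Y *ᵥ (e *ᵥ v) = E *ᵥ (e *ᵥ v)
    rw [Matrix.mulVec_mulVec, Matrix.mulVec_mulVec, hE, mul_assoc, he]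
  obtain ⟨g, hg, hgU⟩ := WittExtension.quad_extend Q hQ U (Y.mulVecLin.comp U.subtype)
    ((Matrix.mulVec_injective_of_isUnit hYu).comp Subtype.val_injective) (by
      rintro ⟨_, v, rfl⟩
      show Q (Y *ᵥ (e *ᵥ v)) = Q (e *ᵥ v)
      rw [Matrix.mulVec_mulVec, ← hE, hQE])
  have hge : ∀ v, g (e *ᵥ v) = E *ᵥ v := fun v => by
    have := hgU ⟨e *ᵥ v, v, rfl⟩
    rw [this]
    show Y *ᵥ (e *ᵥ v) = E *ᵥ v
    rw [Matrix.mulVec_mulVec]
  have hgpol : ∀ u v, QuadraticMap.polar Q (g u) (g v) = QuadraticMap.polar Q u v := fun u v => by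
    simp only [QuadraticMap.polar, ← map_add, hg]
  have hfix : ∀ w, e *ᵥ w = 0 → B.1.1 *ᵥ g w = g w := by
    intro w hw
    have h0 : e' *ᵥ g w = 0 := by
      refine bil_left_nondeg hG fun y => ?_
      obtain ⟨z, rfl⟩ := (Matrix.mulVec_surjective_iff_isUnit.2 hYu) y
      rw [bil_adj hG, hse', Matrix.mulVec_mulVec, ← hYe, hbil, ← hge, hgpol, ← hbil, ← hse, ← bil_adj hG, hw]
      simp [bil]
    calc B.1.1 *ᵥ g w = B.1.1 *ᵥ ((1 - e') *ᵥ g w) := by rw [Matrix.sub_mulVec, Matrix.one_mulVec, h0, sub_zero]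
      _ = g w := by rw [Matrix.mulVec_mulVec, hfixB, Matrix.sub_mulVec, Matrix.one_mulVec, h0, sub_zero]
  have hcomm : ∀ v, g (A.1.1 *ᵥ v) = B.1.1 *ᵥ g v := by
    intro v
    set w := (1 - e) *ᵥ v with hwdef
    have hw : e *ᵥ w = 0 := by rw [hwdef, Matrix.mulVec_mulVec, mul_sub, mul_one, he, sub_self, Matrix.zero_mulVec]
    have hAw : A.1.1 *ᵥ w = w := by rw [hwdef, Matrix.mulVec_mulVec, hfixA]
    have hv : v = e *ᵥ v + w := by rw [hwdef, Matrix.sub_mulVec, Matrix.one_mulVec, add_sub_cancel]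
    rw [hv, Matrix.mulVec_add, map_add, map_add, Matrix.mulVec_add, hAw, hfix w hw, hge]
    congr 1
    rw [Matrix.mulVec_mulVec, ← hec.eq, ← Matrix.mulVec_mulVec, hge, Matrix.mulVec_mulVec, hEA, Matrix.mulVec_mulVec]
  let K : GL ι F := Matrix.GeneralLinearGroup.toLin.symm (LinearMap.GeneralLinearGroup.ofLinearEquiv g)
  have hK : ∀ v, K.1 *ᵥ v = g v := fun v => LinearMap.toMatrix'_mulVec _ _
  refine _root_.isConj_iff.2 ⟨⟨K, fun u _ => by show Q (K.1 *ᵥ u) = Q u; rw [hK, hg]⟩, ?_⟩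
  rw [mul_inv_eq_iff_eq_mul]
  refine Subtype.ext (Units.ext (Matrix.ext_of_mulVec_single fun i => ?_))
  show (K.1 * A.1.1) *ᵥ _ = (B.1.1 * K.1) *ᵥ _
  rw [← Matrix.mulVec_mulVec, ← Matrix.mulVec_mulVec, hK, hK, hcomm]

end CfsgLib.SemisimpleIso
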